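import Cfsg.Agent.H15.QuotSet
import Cfsg.Agent.H24.He.Main

/-! Recognition of the centraliser `2^(1+6) : L₃(2)` of a transvection in `SL(5,2)`. -/

set_option autoImplicit false

namespace Cfsg.Agent.H15.He7

open Subgroup

theorem equiv_of_split {G G' : Type*} [Group G] [Group G'] [Finite G] [Finite G'] {U C : Subgroup G}
    {U' C' : Subgroup G'} [U.Normal] [U'.Normal] (hc : U.IsComplement' C) (hc' : U'.IsComplement' C')
    (hcomm : ∀ u ∈ U', ∀ v ∈ U', u * v = v * u) (hinj : ∀ g, (∀ u ∈ U, g * u = u * g) → g ∈ U)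
    (hinj' : ∀ g, (∀ u ∈ U', g * u = u * g) → g ∈ U') (e : U ≃* U')
    (h : ∀ g : G, ∃ g' : G', ∀ u : U, g' * e u * g'⁻¹ = e (MulAut.conjNormal g u))
    (hcard : Nat.card G' ≤ Nat.card G) : ∃ φ : G ≃* G', ∀ u : U, φ u = e u := by
  let j : C' →* MulAut U' := MulAut.conjNormal.comp C'.subtype
  let p : C →* MulAut U' := (MulAut.congr e).toMonoidHom.comp (MulAut.conjNormal.comp C.subtype)
  have hp : ∀ c, ∃ t, j t = p c := fun c => by
    obtain ⟨g, hg⟩ := h c
    obtain ⟨⟨u, t⟩, rfl⟩ := hc'.2 g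
    refine ⟨t, MulEquiv.ext fun v => Subtype.ext ?_⟩
    obtain ⟨v, rfl⟩ := e.surjective v
    have h1 : (t : G') * e v * (t : G')⁻¹ ∈ U' := ‹U'.Normal›.conj_mem _ (e v).2 _
    calc (t : G') * e v * (t : G')⁻¹ = u * ((t : G') * e v * (t : G')⁻¹) * (u : G')⁻¹ := by
          rw [hcomm _ u.2 _ h1, mul_inv_cancel_right]
      _ = (u * t : G') * e v * (u * t : G')⁻¹ := by group
      _ = _ := by rw [hg v]; simp [p]
  obtain ⟨θ, hθ⟩ := exists_hom_of_range j p hp (MonoidHom.id _) fun t ht =>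
    Subtype.ext (mem_bot.1 (hc'.disjoint.le_bot (show (t : G') ∈ U' ⊓ C' from
      ⟨hinj' _ fun u hu => mul_inv_eq_iff_eq_mul.1 (show (t : G') * u * (t : G')⁻¹ = u from
        congrArg Subtype.val (DFunLike.congr_fun ht (⟨u, hu⟩ : U'))), t.2⟩)))
  have hθ' : ∀ (c : C) (u : U), (θ c : G') * e u * (θ c : G')⁻¹ = e (MulAut.conjNormal (c : G) u) :=
    fun c u => by
      obtain ⟨t, ht⟩ := hp c
      rw [hθ c t ht]
      simpa [j, p] using congrArg Subtype.val (DFunLike.congr_fun ht (e u))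
  let F : G →* G' := (SemidirectProduct.lift
    (φ := U.normalizerMonoidHom.comp (inclusion (U.normalizer_eq_top ▸ le_top)))
    (U'.subtype.comp e.toMonoidHom) (C'.subtype.comp θ)
    fun c => MonoidHom.ext fun u => (hθ' c u).symm).comp
      (SemidirectProduct.mulEquivSubgroup hc).symm.toMonoidHom
  have hF : ∀ (u : U) (c : C), F (u * c) = e u * θ c := fun u c => by
    have := (SemidirectProduct.mulEquivSubgroup hc).symm_apply_eq.2
      (show (u * c : G) = SemidirectProduct.mulEquivSubgroup hc ⟨u, c⟩ from rfl)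
    simp only [F, MonoidHom.comp_apply, MulEquiv.coe_toMonoidHom]
    rw [this]; rfl
  have hi : Function.Injective F := (injective_iff_map_eq_one F).2 fun g hg => by
    obtain ⟨u, c, rfl⟩ : ∃ (u : U) (c : C), (u * c : G) = g :=
      let ⟨⟨u, c⟩, h⟩ := hc.2 g; ⟨u, c, h⟩
    rw [hF, mul_eq_one_iff_eq_inv] at hg
    have h1 : (e u : G') = 1 := mem_bot.1 (hc'.disjoint.le_bot
      (show (e u : G') ∈ U' ⊓ C' from ⟨(e u).2, hg ▸ C'.inv_mem (θ c).2⟩))
    have h2 : (θ c : G') = 1 := inv_eq_one.1 (hg.symm.trans h1)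
    have h3 : (c : G) ∈ U := hinj _ fun v hv => by
      have := hθ' c ⟨v, hv⟩
      rw [h2, one_mul, inv_one, mul_one, Subtype.val_inj, e.apply_eq_iff_eq] at this
      exact mul_inv_eq_iff_eq_mul.1 (congrArg Subtype.val this).symm
    rw [show u = 1 from e.map_eq_one_iff.1 (Subtype.ext h1), 
      mem_bot.1 (hc.disjoint.le_bot (show (c : G) ∈ U ⊓ C from ⟨h3, c.2⟩))]
    simp
  refine ⟨MulEquiv.ofBijective F ((Nat.bijective_iff_injective_and_card F).2
    ⟨hi, le_antisymm (Nat.card_le_card_of_injective F hi) hcard⟩), fun u => ?_⟩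
  simpa using hF u 1

theorem exists_equiv_elem {A B : Type*} [Group A] [Group B] [Finite A] [Finite B]
    (hA : ∀ a : A, a * a = 1) (hB : ∀ b : B, b * b = 1) (hc : Nat.card A = Nat.card B) {a : A} {b : B}
    (ha : a ≠ 1) (hb : b ≠ 1) : ∃ e : A ≃* B, e a = b := by
  have cm : ∀ {X : Type _} [Group X], (∀ x : X, x * x = 1) → ∀ x y : X, x * y = y * x :=
    fun h x y => by
      rw [← inv_eq_of_mul_eq_one_right (h (x * y)), mul_inv_rev, inv_eq_of_mul_eq_one_right (h x),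
        inv_eq_of_mul_eq_one_right (h y)]
  have cm' : ∀ x y : B, x * y = y * x := fun x y => by
    rw [← inv_eq_of_mul_eq_one_right (hB (x * y)), mul_inv_rev, inv_eq_of_mul_eq_one_right (hB x),
      inv_eq_of_mul_eq_one_right (hB y)]
  letI : CommGroup A := { ‹Group A› with mul_comm := cm hA }
  letI : CommGroup B := { ‹Group B› with mul_comm := cm' }
  letI : Module (ZMod 2) (Additive A) := AddCommGroup.zmodModule fun x => by
    rw [two_nsmul]; exact hA x.toMul
  letI : Module (ZMod 2) (Additive B) := AddCommGroup.zmodModule fun x => by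
    rw [two_nsmul]; exact hB x.toMul
  have : Fact (Nat.Prime 2) := ⟨Nat.prime_two⟩
  obtain ⟨ε⟩ : Nonempty (Additive A ≃ₗ[ZMod 2] Additive B) := by
    refine FiniteDimensional.nonempty_linearEquiv_of_finrank_eq (Nat.pow_right_injective le_rfl ?_)
    have h1 := Module.natCard_eq_pow_finrank (K := ZMod 2) (V := Additive A)
    have h2 := Module.natCard_eq_pow_finrank (K := ZMod 2) (V := Additive B)
    rw [Nat.card_zmod] at h1 h2
    exact h1.symm.trans (hc.trans h2)
  have h1 : ε (Additive.ofMul a) ≠ 0 := ε.map_ne_zero_iff.2 ha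
  replace hb : Additive.ofMul b ≠ 0 := hb
  obtain ⟨g, hg⟩ := Submodule.exists_linearEquiv_restrict_eq
    ((LinearEquiv.toSpanNonzeroSingleton (ZMod 2) _ _ h1).symm.trans
      (LinearEquiv.toSpanNonzeroSingleton (ZMod 2) _ (Additive.ofMul b) hb))
  refine ⟨AddEquiv.toMultiplicative (ε.trans g).toAddEquiv, ?_⟩
  have := hg (LinearEquiv.toSpanNonzeroSingleton (ZMod 2) _ _ h1 1)
  rw [LinearEquiv.trans_apply, LinearEquiv.symm_apply_apply] at this
  rw [LinearEquiv.toSpanNonzeroSingleton_one, LinearEquiv.toSpanNonzeroSingleton_one] at this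
  exact this.symm

open H24.He H14

theorem card_Hm_le : Nat.card Hm ≤ 21504 := by
  have h := cntM_eq (ps := [19, 18, 17, 16, 14, 13, 12, 11, 9, 8, 7, 6, 4, 3, 2, 1]) (by decide) okH cI
  rw [← cntH, ← h.2, ← Set.ncard_univ]
  refine (Set.ncard_le_ncard (fun g _ => ?_) (h.1.image H24.He.mk)).trans (Set.ncard_image_le h.1)
  obtain ⟨n, hn, rfl⟩ := exists_mk g
  exact ⟨n, ⟨beq_iff.1 (allH_spec (p := fun n => Nat.beq (Nat.lor n 1014750) 17791967)
    (by decide +kernel) hn), hn⟩, rfl⟩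

instance normal_U : (setupH.pat pU).Normal := normalizer_eq_top_iff.1 (eq_top_iff.2 fun g _ => by
  obtain ⟨n, hn, rfl⟩ := exists_mk g
  exact setupH.H_le_normU hn)

theorem compl_U : ∃ L : Subgroup Hm, (setupH.pat pU).IsComplement' L := by
  let S := setupH
  have : IsMulCommutative (S.pat pU) := ⟨⟨fun a b => Subtype.ext (S.pat_U_comm _ a.2 _ b.2)⟩⟩
  have hK : ∀ v, pK.mem v = true → pT.mem v = true ∧ (pU.mem v = false ∨ v = cI) := fun v hv => by
    simpa using Pat.all_iff.1 KU_chk.1 v hv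
  refine H2.gaschutz_exists (S.pat pU) (S.pat pT) (S.pat_mono fun _ => U_T) (by
      rw [S.card_U, ← S.syl_eq]
      exact Nat.Coprime.pow_left 4 ((Nat.Prime.coprime_iff_not_dvd Nat.prime_two).2
        S.syl.not_dvd_index))
    (S.pat pK) (S.pat_mono fun v hv => (hK v hv).1) (eq_bot_iff.2 ?_) (le_antisymm
      (sup_le (S.pat_mono fun _ => U_T) (S.pat_mono fun v hv => (hK v hv).1)) (S.pat_le fun k hk => ?_))
  · rintro _ ⟨⟨v, hv, rfl⟩, h2⟩
    rw [(hK v hv).2.resolve_left (by simp [(S.f_mem_pat_iff (Pat.okH_of hv)).1 h2]), S.f_cI]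
    exact one_mem _
  · rcases Bool.or_eq_true _ _ ▸ allL_iff.1 KU_chk.2 k hk with h1 | h1
    · exact mem_sup_left (S.f_mem_pat h1)
    · exact mem_sup_right (S.f_mem_pat h1)

/-- a split extension of `2⁴` by the stabiliser of a point is the centraliser of a transvection -/
theorem iso_Hm {H : Type*} [Group H] [Finite H] (W T A : Subgroup H) [W.Normal] (hW : Nat.card W = 16)
    (sq : ∀ w ∈ W, w * w = 1) {y : H} (hy : y ∈ W) (y1 : y ≠ 1) (cen : ∀ h, h * y = y * h)
    (hc : ∀ g, (∀ u ∈ W, g * u = u * g) → g ∈ W) (hWT : W ≤ T) (hT : ¬ 2 ∣ T.index) (hAT : A ≤ T)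
    (hAW : A ⊓ W = ⊥) (hWA : W ⊔ A = T) (hcard : 21504 ≤ Nat.card H) :
    ∃ e : H ≃* Hm, ∀ a, a ∈ W ↔ e a ∈ setupH.pat pU := by
  have : IsMulCommutative W := ⟨⟨fun a b => Subtype.ext (by
    rw [coe_mul, coe_mul, ← inv_eq_of_mul_eq_one_right (sq _ (mul_mem a.2 b.2)), mul_inv_rev,
      inv_eq_of_mul_eq_one_right (sq _ a.2), inv_eq_of_mul_eq_one_right (sq _ b.2)])⟩⟩
  obtain ⟨C, hC⟩ := H2.gaschutz_exists W T hWT (hW ▸ Nat.Coprime.pow_left 4
    ((Nat.Prime.coprime_iff_not_dvd Nat.prime_two).2 hT)) A hAT hAW hWA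
  obtain ⟨C', hC'⟩ := compl_U
  obtain ⟨ε, hε⟩ := exists_equiv_elem (A := W) (B := setupH.pat pU) (fun a => Subtype.ext (sq _ a.2))
    (by
      rintro ⟨_, n, hn, rfl⟩
      exact Subtype.ext (setupH.f_sq (Pat.okH_of hn) (beq_iff.1 (Pat.all_iff.1
        (show (pU.all fun v => Nat.beq (mulN v v) cI) = true by decide +kernel) n hn))))
    (hW.trans setupH.card_U.symm) (a := ⟨y, hy⟩) (b := ⟨_, setupH.z_mem_U⟩)
    (fun h => y1 (congrArg Subtype.val h)) fun h => setupH.z_ne_one (congrArg Subtype.val h)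
  obtain ⟨e, he⟩ := equiv_of_split hC hC' setupH.pat_U_comm hc (fun _ => setupH.cenU) ε (fun g => by
    obtain ⟨h, hh⟩ := setupH.aut_U (MulAut.congr ε (MulAut.conjNormal g)) (by
      rw [← hε, MulAut.congr_apply, MulEquiv.trans_apply, MulEquiv.trans_apply, ε.symm_apply_apply]
      exact congrArg ε (Subtype.ext (mul_inv_eq_iff_eq_mul.2 (cen g))))
    exact ⟨h, fun u => by simpa using hh (ε u)⟩) (card_Hm_le.trans hcard)
  refine ⟨e, fun a => ⟨fun h => he ⟨a, h⟩ ▸ (ε ⟨a, h⟩).2, fun h => ?_⟩⟩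
  obtain ⟨u, hu⟩ := ε.surjective ⟨_, h⟩
  exact e.injective ((he u).trans (congrArg Subtype.val hu)) ▸ u.2

end Cfsg.Agent.H15.He7
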