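import Cfsg.Agent.H15.He7.L
import Cfsg.Agent.H15.He7.Iso
import Cfsg.Agent.H8.Dihedral

/-! Groups `2^(1+6) . L₃(2)` with two invariant elementary abelian subgroups of order 16. -/

set_option autoImplicit false

namespace Cfsg.Agent.H15.He7

open Subgroup H97 H24 H24.He

theorem Kb_le {A : AddSubgroup (W 6)} (h1 : wpt 6 8 ∈ A) (h2 : wpt 6 16 ∈ A) (h3 : wpt 6 32 ∈ A) :
    Kb ≤ A := fun v hv => by
  have : ∀ v ∈ Kb, v = (v 3).val • wpt 6 8 + (v 4).val • wpt 6 16 + (v 5).val • wpt 6 32 := by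
    decide +kernel
  rw [this v hv]
  exact add_mem (add_mem (nsmul_mem h1 _) (nsmul_mem h2 _)) (nsmul_mem h3 _)

theorem split_UK : ∀ v : W 6, ∃ u ∈ Ub, v + u ∈ Kb := by decide +kernel

theorem w_add_self (v : W 6) : v + v = 0 := funext fun _ => CharTwo.add_self_eq_zero _

/-- `ψ` is the map onto `L₃(2)` and `κ` the map from its kernel onto the kernel modulo `y` -/
structure HH {H : Type*} [Group H] (y : H) (κ : H → W 6) (ψ : H →* Equiv.Perm (W 6)) : Prop where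
  ne : y ≠ 1
  sq : y * y = 1
  cen : ∀ h, h * y = y * h
  range : ψ.range = L
  zed : ψ y = 1
  mul : ∀ {a b}, ψ a = 1 → ψ b = 1 → κ (a * b) = κ a + κ b
  surj : ∀ v, ∃ a, ψ a = 1 ∧ κ a = v
  zero : ∀ {a}, ψ a = 1 → (κ a = 0 ↔ a = 1 ∨ a = y)
  comm : ∀ {a b}, ψ a = 1 → ψ b = 1 → (a * b = b * a ↔ Bf (κ a) (κ b) = 0)
  conj : ∀ h {a}, ψ a = 1 → κ (h * a * h⁻¹) = ψ h (κ a)
  sqr : ∀ {a}, ψ a = 1 → κ a ∈ Ub ∨ κ a ∈ Kb → a * a = 1
  uu : ∃ s u, ψ s = 1 ∧ κ s ∈ Ub ∧ κ s ≠ 0 ∧ u * u = 1 ∧ ψ u ≠ 1 ∧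
    ∀ q, ψ q = 1 → q * s = s * q → u * q * u⁻¹ = q ∨ u * q * u⁻¹ = s * q

namespace HH

variable {H : Type*} [Group H] {y : H} {κ : H → W 6} {ψ : H →* Equiv.Perm (W 6)} (h : HH y κ ψ)
include h

theorem mem_L (g : H) : ψ g ∈ L := h.range ▸ ⟨g, rfl⟩

theorem one : κ 1 = 0 := (h.zero (map_one ψ)).2 (Or.inl rfl)

theorem ky : κ y = 0 := (h.zero h.zed).2 (Or.inr rfl)

theorem inv {a : H} (ha : ψ a = 1) : κ a⁻¹ = κ a := by
  have := h.mul ha (show ψ a⁻¹ = 1 by rw [map_inv, ha, inv_one])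
  rw [mul_inv_cancel, h.one] at this
  exact add_left_cancel (this.symm.trans (w_add_self _).symm)

theorem eq_or {a b : H} (ha : ψ a = 1) (hb : ψ b = 1) (e : κ a = κ b) : a = b ∨ a = y * b := by
  have hb' : ψ b⁻¹ = 1 := by rw [map_inv, hb, inv_one]
  have := (h.zero (a := a * b⁻¹) (by rw [map_mul, ha, hb', mul_one])).1
    (by rw [h.mul ha hb', h.inv hb, e, w_add_self])
  rwa [mul_inv_eq_one, mul_inv_eq_iff_eq_mul] at this

omit h in
theorem psi_conj (g : H) {a : H} (ha : ψ a = 1) : ψ (g * a * g⁻¹) = 1 := by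
  rw [map_mul, map_mul, ha, mul_one, map_inv, mul_inv_cancel]

theorem yy (a : H) : y * (y * a) = a := by rw [← mul_assoc, h.sq, one_mul]

theorem conj_y (g a : H) : g * (y * a) * g⁻¹ = y * (g * a * g⁻¹) := by
  rw [← mul_assoc, h.cen]; group

/-- the preimage of a subspace -/
def sub (B : AddSubgroup (W 6)) : Subgroup H where
  carrier := {a | ψ a = 1 ∧ κ a ∈ B}
  one_mem' := ⟨map_one ψ, h.one ▸ B.zero_mem⟩
  mul_mem' ha hb := ⟨by rw [map_mul, ha.1, hb.1, mul_one], h.mul ha.1 hb.1 ▸ B.add_mem ha.2 hb.2⟩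
  inv_mem' ha := ⟨by rw [map_inv, ha.1, inv_one], (h.inv ha.1).symm ▸ ha.2⟩

theorem y_mem (B : AddSubgroup (W 6)) : y ∈ h.sub B := ⟨h.zed, h.ky ▸ B.zero_mem⟩

theorem normal_U : (h.sub Ub).Normal :=
  ⟨fun a ha g => ⟨psi_conj g ha.1, h.conj g ha.1 ▸ (L_inv (h.mem_L g) _).1 ha.2⟩⟩

theorem normal_K : (h.sub Kb).Normal :=
  ⟨fun a ha g => ⟨psi_conj g ha.1, h.conj g ha.1 ▸ (L_inv (h.mem_L g) _).2 ha.2⟩⟩

theorem card_sub (B : AddSubgroup (W 6)) : Nat.card (h.sub B) = 2 * Nat.card B := by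
  let φ : h.sub B →* Multiplicative B := MonoidHom.mk' (fun a => Multiplicative.ofAdd ⟨κ a, a.2.2⟩)
    fun a b => Subtype.ext (h.mul a.2.1 b.2.1)
  have h1 : φ.ker = (zpowers y).subgroupOf _ := Subgroup.ext fun a => by
    rw [mem_subgroupOf, mem_zpowers_two h.sq, ← h.zero a.2.1]
    exact Subtype.ext_iff
  rw [← φ.ker.card_mul_index, index_ker, MonoidHom.range_eq_top.2, card_top, h1,
    Nat.card_congr (subgroupOfEquivOfLe (zpowers_le.2 (h.y_mem B))).toEquiv, Nat.card_zpowers,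
    orderOf_two h.ne h.sq]
  · rfl
  · intro v
    obtain ⟨a, h1, h2⟩ := h.surj v.toAdd
    exact ⟨⟨a, h1, h2 ▸ v.toAdd.2⟩, Subtype.ext h2⟩

theorem card : Nat.card H = 21504 := by
  have h1 : ψ.ker = h.sub ⊤ := Subgroup.ext fun a => ⟨fun e => ⟨e, trivial⟩, And.left⟩
  rw [← ψ.ker.card_mul_index, index_ker, h.range, card_L, h1, h.card_sub, AddSubgroup.card_top,
    Nat.card_fun, Nat.card_zmod, Nat.card_eq_fintype_card, Fintype.card_fin]
  rfl

theorem K_comm {a b : H} (ha : a ∈ h.sub Kb) (hb : b ∈ h.sub Kb) : a * b = b * a :=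
  (h.comm ha.1 hb.1).2 ((Bf_K _).2 ha.2 _ hb.2)

theorem K_sq {a : H} (ha : a ∈ h.sub Kb) : a * a = 1 := h.sqr ha.1 (Or.inr ha.2)

/-- an involution commuting with its conjugates -/
theorem of_comm {a : H} (h2 : a * a = 1) (hc : ∀ g, a * (g * a * g⁻¹) = g * a * g⁻¹ * a) :
    ψ a = 1 ∧ (κ a ∈ Ub ∨ κ a ∈ Kb) := by
  have h1 : ψ a = 1 := by
    by_contra hne
    obtain ⟨α, a1, β, b1, a2, a3, b2, b3, c1, -⟩ := exists_D8
    have e : ψ a * ψ a = 1 := by rw [← map_mul, h2, map_one]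
    obtain ⟨k, hk, rfl⟩ := L_conj (h.mem_L a) hne e a1 a2 a3
    obtain ⟨k', hk', rfl⟩ := L_conj a1 a2 a3 b1 b2 b3
    obtain ⟨g, hg⟩ : k⁻¹ * k' * k ∈ ψ.range :=
      h.range ▸ mul_mem (mul_mem (inv_mem hk) hk') hk
    have := congrArg (fun x => k * ψ x * k⁻¹) (hc g)
    simp only [map_mul, map_inv, hg] at this
    refine c1 ?_
    rw [Commute.mul_pow (by simpa [commute_iff_eq, mul_assoc] using this), pow_two, pow_two, a3, b3,
      mul_one]
  refine ⟨h1, by_contra fun hn => ?_⟩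
  obtain ⟨_, hg, e⟩ := mixed _ (not_or.1 hn).1 (not_or.1 hn).2
  obtain ⟨g, rfl⟩ := h.range ▸ hg
  exact e (h.conj g h1 ▸ (h.comm h1 (psi_conj g h1)).1 (hc g))

/-- complements to `y` in the second subgroup -/
structure Cp (A : Subgroup H) : Prop where
  le : A ≤ h.sub Kb
  ny : y ∉ A
  di : ∀ k ∈ h.sub Kb, k ∈ A ∨ y * k ∈ A

variable {h}

theorem Cp.lift {A : Subgroup H} (c : h.Cp A) {v : W 6} (hv : v ∈ Kb) : ∃ k ∈ A, κ k = v := by
  obtain ⟨k, h1, rfl⟩ := h.surj v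
  exact (c.di k ⟨h1, hv⟩).elim (fun e => ⟨k, e, rfl⟩)
    fun e => ⟨_, e, by rw [h.mul h.zed h1, h.ky, zero_add]⟩

theorem Cp.eq {A : Subgroup H} (c : h.Cp A) {a b : H} (ha : a ∈ A) (hb : b ∈ A) (e : κ a = κ b) :
    a = b := (h.eq_or (c.le ha).1 (c.le hb).1 e).resolve_right fun e =>
  c.ny ((A.mul_mem_cancel_right hb).1 (e ▸ ha))

theorem Cp.conj {A : Subgroup H} (c : h.Cp A) (g : H) :
    h.Cp (A.comap (MulAut.conj g).toMonoidHom) :=
  ⟨fun k hk => by simpa [mul_assoc] using h.normal_K.conj_mem _ (c.le hk) g⁻¹,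
    fun e => c.ny (by simpa [h.cen g] using e),
    fun k hk => (c.di _ (h.normal_K.conj_mem _ hk g)).imp_right fun e =>
      show g * (y * k) * g⁻¹ ∈ A from h.conj_y g k ▸ e⟩

open Classical in
theorem Cp.trans {A A' : Subgroup H} (c : h.Cp A) (c' : h.Cp A') :
    ∃ q, ψ q = 1 ∧ ∀ k ∈ A', q * k * q⁻¹ ∈ A := by
  obtain ⟨k1, m1, e1⟩ := c'.lift (v := wpt 6 8) (by decide +kernel)
  obtain ⟨k2, m2, e2⟩ := c'.lift (v := wpt 6 16) (by decide +kernel)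
  obtain ⟨k3, m3, e3⟩ := c'.lift (v := wpt 6 32) (by decide +kernel)
  obtain ⟨v, f1, f2, f3⟩ := exists_Bf
    ![if k1 ∈ A then 0 else 1, if k2 ∈ A then 0 else 1, if k3 ∈ A then 0 else 1]
  obtain ⟨q, hq, rfl⟩ := h.surj v
  have key : ∀ k ∈ A', Bf (κ q) (κ k) = (if k ∈ A then 0 else 1) → q * k * q⁻¹ ∈ A := fun k m e => by
    have m' := c'.le m
    split_ifs at e with hk
    · rwa [(h.comm hq m'.1).2 e, mul_inv_cancel_right]
    · rw [(h.eq_or (psi_conj q m'.1) m'.1 (by rw [h.conj q m'.1, hq]; rfl)).resolve_left fun e' =>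
        one_ne_zero (e.symm.trans ((h.comm hq m'.1).1 (mul_inv_eq_iff_eq_mul.1 e')))]
      exact (c.di k m').resolve_left hk
  let P := A' ⊓ A.comap (MulAut.conj q).toMonoidHom
  let B : AddSubgroup (W 6) :=
    { carrier := κ '' P
      zero_mem' := ⟨1, P.one_mem, h.one⟩
      add_mem' := by
        rintro _ _ ⟨a, ha, rfl⟩ ⟨b, hb, rfl⟩
        exact ⟨_, P.mul_mem ha hb, h.mul (c'.le ha.1).1 (c'.le hb.1).1⟩
      neg_mem' := fun {v} hv => by rwa [neg_eq_of_add_eq_zero_right (w_add_self v)] }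
  refine ⟨q, hq, fun k hk => ?_⟩
  obtain ⟨p, hp, e⟩ := Kb_le (A := B) ⟨k1, ⟨m1, key k1 m1 (e1 ▸ f1)⟩, e1⟩
    ⟨k2, ⟨m2, key k2 m2 (e2 ▸ f2)⟩, e2⟩ ⟨k3, ⟨m3, key k3 m3 (e3 ▸ f3)⟩, e3⟩ (c'.le hk).2
  exact c'.eq hp.1 hk e ▸ hp.2

variable [Finite H]

theorem Cp.frattini {A : Subgroup H} (c : h.Cp A) (g : H) :
    ∃ n ∈ normalizer (A : Set H), ψ n = ψ g := by
  obtain ⟨q, hq, e⟩ := c.trans (c.conj g⁻¹)
  refine ⟨q * g, H43.mem_normalizer_of_conj_mem fun k hk => ?_, by rw [map_mul, hq, one_mul]⟩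
  simpa [mul_assoc] using e (g * k * g⁻¹) (by simpa [mul_assoc] using hk)

omit [Finite H] in
theorem Cp.norm_K {A : Subgroup H} (c : h.Cp A) {n : H} (hn : n ∈ normalizer (A : Set H))
    (h1 : ψ n = 1) : n ∈ h.sub Kb := by
  refine ⟨h1, (Bf_K _).1 fun v hv => ?_⟩
  obtain ⟨k, hk, rfl⟩ := c.lift hv
  refine (h.comm h1 (c.le hk).1).1 (mul_inv_eq_iff_eq_mul.1 (c.eq
    (H43.conj_mem_of_mem_normalizer hn hk) hk ?_))
  rw [h.conj n (c.le hk).1, h1]; rfl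

variable (h)

theorem exists_cp : ∃ A, h.Cp A ∧ ∃ u ∈ normalizer (A : Set H), u * u = 1 ∧ ψ u ≠ 1 := by
  obtain ⟨s, u, s1, s2, s3, u1, u2, hu⟩ := h.uu
  have h1 : ∀ k ∈ h.sub Kb, k * s = s * k → u * k * u⁻¹ = k := fun k hk e =>
    (hu k hk.1 e).resolve_right fun e' => s3 (eq_zero_of_UK _ s2
      ((h.sub Kb).mul_mem_cancel_right hk |>.1 (e' ▸ h.normal_K.conj_mem _ hk u)).2)
  obtain ⟨k0, m0, e0⟩ : ∃ k0 ∈ h.sub Kb, κ (u * k0 * u⁻¹) ≠ κ k0 := by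
    by_contra hn
    push Not at hn
    refine u2 (L_eq_one (h.mem_L u) (Or.inr fun v hv => ?_))
    obtain ⟨k, hk, rfl⟩ := h.surj v
    rw [← h.conj u hk, hn k ⟨hk, hv⟩]
  have m1 := h.normal_K.conj_mem _ m0 u
  have m2 := mul_mem m1 m0
  have h2 : ∀ k ∈ h.sub Kb, u * k * u⁻¹ = k ∨ u * k * u⁻¹ = u * k0 * u⁻¹ * k0 * k := fun k hk => by
    refine (em (k * s = s * k)).imp (h1 k hk) fun e => ?_
    have e1 : ¬ k0 * s = s * k0 := fun e => e0 (by rw [h1 k0 m0 e])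
    rw [h.comm hk.1 s1] at e
    rw [h.comm m0.1 s1] at e1
    have := h1 _ (mul_mem m0 hk) ((h.comm (mul_mem m0 hk).1 s1).2 (by
      rw [h.mul m0.1 hk.1, Bf_add, (zmod2_cases _).resolve_left e, (zmod2_cases _).resolve_left e1]
      rfl))
    rw [mul_assoc _ k0, ← this, ← conj_mul, ← mul_assoc, h.K_sq m1, one_mul]
  obtain ⟨A, hA, hmax⟩ := Finite.exists_le_maximal (p := fun A : Subgroup H => A ≤ h.sub Kb ∧ y ∉ A)
    (a := zpowers (u * k0 * u⁻¹ * k0)) ⟨zpowers_le.2 m2, fun e => by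
      rcases (mem_zpowers_two (h.K_sq m2)).1 e with e | e
      · exact h.ne e
      · have := h.mul m1.1 m0.1
        rw [← e, h.ky] at this
        exact e0 (add_right_cancel (this.symm.trans (w_add_self _).symm))⟩
  refine ⟨A, ⟨hmax.1.1, hmax.1.2, fun k hk => ?_⟩, u, H43.mem_normalizer_of_conj_mem fun k hk => ?_,
    u1, u2⟩
  · have n1 : k ∈ normalizer (A : Set H) := H43.mem_normalizer_of_conj_mem fun a ha => by
      rwa [h.K_comm hk (hmax.1.1 ha), mul_inv_cancel_right]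
    by_cases e : y ∈ ext2 A k n1 (h.K_sq hk ▸ A.one_mem)
    · obtain ⟨a, ha, e⟩ := e.resolve_left hmax.1.2
      exact Or.inr (by rwa [← h.cen, ← e, ← mul_assoc, h.K_sq hk, one_mul])
    · refine Or.inl (hmax.2 ⟨?_, e⟩ (fun a ha => Or.inl ha) (Or.inr ⟨1, A.one_mem, mul_one k⟩))
      rintro _ (ha | ⟨a, ha, rfl⟩)
      exacts [hmax.1.1 ha, mul_mem hk (hmax.1.1 ha)]
  · rcases h2 k (hmax.1.1 hk) with e | e <;> rw [e]
    exacts [hk, mul_mem (hA (mem_zpowers _)) hk]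

theorem iso : Nonempty (H ≃* Hm) := by
  obtain ⟨A, c, u, u0, u1, u2⟩ := h.exists_cp
  have hsq : ∀ n ∈ normalizer (A : Set H), ψ n * ψ n = 1 → n * n ∈ A := fun n hn e => by
    by_cases e1 : ψ n = 1
    · exact h.K_sq (c.norm_K hn e1) ▸ A.one_mem
    obtain ⟨_, hl, e2⟩ := L_conj (h.mem_L u) u2 (by rw [← map_mul, u1, map_one]) (h.mem_L n) e1 e
    obtain ⟨g, rfl⟩ := h.range ▸ hl
    obtain ⟨m, hm, e3⟩ := c.frattini g
    have hu' := mul_mem (mul_mem hm u0) (inv_mem hm)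
    have u1' : m * u * m⁻¹ * (m * u * m⁻¹) = 1 := by rw [conj_mul, u1, mul_one, mul_inv_cancel]
    have e4 : ψ (m * u * m⁻¹) = ψ n := by rw [map_mul, map_mul, map_inv, e3, e2]
    generalize m * u * m⁻¹ = u' at hu' u1' e4
    have e5 : n * n = n * u' * (u' * (n * u') * u'⁻¹) := by
      rw [← mul_assoc u' n, mul_inv_cancel_right, mul_assoc, ← mul_assoc u', u1', one_mul]
    rcases c.di _ (c.norm_K (mul_mem hn hu') (by rw [map_mul, e4, e])) with e6 | e6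
    · exact e5 ▸ mul_mem e6 (H43.conj_mem_of_mem_normalizer hu' e6)
    · have := mul_mem e6 (H43.conj_mem_of_mem_normalizer hu' e6)
      rwa [h.conj_y, mul_assoc y, ← mul_assoc _ y, h.cen, mul_assoc y, h.yy, ← e5] at this
  obtain ⟨α, a1, β, b1, a2, a3, b2, b3, c1, c2, c3⟩ := exists_D8
  have lf : ∀ α ∈ L, ∃ a : normalizer (A : Set H), ψ a = α := fun α hα => by
    obtain ⟨a, rfl⟩ := h.range ▸ hα
    obtain ⟨a, ha, ea⟩ := c.frattini a
    exact ⟨⟨a, ha⟩, ea⟩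
  obtain ⟨a, rfl⟩ := lf _ a1
  obtain ⟨b, rfl⟩ := lf _ b1
  let φ := QuotientGroup.mk' (A.subgroupOf (normalizer (A : Set H)))
  have hφ : ∀ x, φ x = 1 ↔ (x : H) ∈ A := fun x => QuotientGroup.eq_one_iff x
  have hψ : ∀ x x', φ x = φ x' → ψ x = ψ x' := fun x x' e => by
    rw [← inv_mul_eq_one, ← map_inv, ← map_mul] at e ⊢
    exact (c.le ((hφ _).1 e)).1
  have key : ∀ x, φ x ∈ Subgroup.closure {φ a, φ b} →
      ∃ i : ℤ, φ x = φ ((a * b) ^ i) ∨ φ x = φ (a * (a * b) ^ i) := fun x hx => by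
    simpa only [map_mul, map_zpow] using H8.mem_closure_pair
      (by rw [← map_mul, hφ]; exact hsq _ a.2 a3) (by rw [← map_mul, hφ]; exact hsq _ b.2 b3) hx
  let D := ((Subgroup.closure {φ a, φ b}).comap φ).map (normalizer (A : Set H)).subtype
  let T := (Subgroup.closure {ψ a, ψ b}).comap ψ
  have hAD : A ≤ D := fun x hx => ⟨⟨x, le_normalizer hx⟩, by
    rw [SetLike.mem_coe, mem_comap, (hφ ⟨x, le_normalizer hx⟩).2 hx]; exact one_mem _, rfl⟩
  have hy : y ∉ D := by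
    rintro ⟨x, hx, e⟩
    have e : (x : H) = y := e
    obtain ⟨i, hi | hi⟩ := key x hx <;> have := hψ _ _ hi <;> rw [e, h.zed] at this
    · rw [SubgroupClass.coe_zpow, map_zpow, coe_mul, map_mul, eq_comm, ← orderOf_dvd_iff_zpow_eq_one,
        orderOf_eq_prime_pow (p := 2) (n := 1) c1 (by rw [← c2, ← pow_add]; rfl)] at this
      obtain ⟨j, rfl⟩ := this
      have h4 : φ ((a * b) ^ 2 * (a * b) ^ 2) = 1 :=
        (hφ _).2 (hsq _ ((a * b) ^ 2).2 (by simpa using c2))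
      rw [zpow_mul, map_zpow, zpow_natCast, show 2 ^ (1 + 1) = 2 + 2 from rfl, pow_add, h4, one_zpow,
        hφ, e] at hi
      exact c.ny hi
    · rw [coe_mul, SubgroupClass.coe_zpow, map_mul, map_zpow, coe_mul, map_mul, eq_comm,
        mul_eq_one_iff_eq_inv, ← zpow_neg] at this
      have h4 : Commute (ψ a) (ψ a * ψ b) := by
        nth_rw 1 [this]; exact Commute.zpow_left (Commute.refl _) _
      refine c1 ?_
      rw [Commute.mul_pow (mul_left_cancel (h4.eq.trans (mul_assoc _ _ _))), pow_two, pow_two, a3, b3,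
        mul_one]
  have ma : (a : H) ∈ T := subset_closure (by simp)
  have mb : (b : H) ∈ T := subset_closure (by simp)
  have hDT : D ≤ T := by
    rintro _ ⟨x, hx, rfl⟩
    obtain ⟨i, hi | hi⟩ := key x hx <;> refine mem_comap.2 (hψ _ _ hi ▸ mem_comap.1 ?_)
    exacts [zpow_mem (mul_mem ma mb) i, mul_mem ma (zpow_mem (mul_mem ma mb) i)]
  have hUT : h.sub Ub ≤ T := fun x hx => mem_comap.2 (hx.1 ▸ one_mem _)
  have := h.normal_U
  refine (iso_Hm (h.sub Ub) T D (by rw [h.card_sub, card_Ub]) (fun w hw => h.sqr hw.1 (Or.inl hw.2))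
    (h.y_mem _) h.ne h.cen (fun g hg => ?_) hUT ?_ hDT (eq_bot_iff.2 ?_) (le_antisymm (sup_le hUT hDT)
      fun t ht => ?_) h.card.ge).elim fun e _ => ⟨e⟩
  · have h1 : ψ g = 1 := L_eq_one (h.mem_L g) (Or.inl fun v hv => by
      obtain ⟨k, hk, rfl⟩ := h.surj v
      rw [← h.conj g hk, hg k ⟨hk, hv⟩, mul_inv_cancel_right])
    refine ⟨h1, (Bf_U _).1 fun v hv => ?_⟩
    obtain ⟨k, hk, rfl⟩ := h.surj v
    exact (h.comm h1 hk).1 (hg k ⟨hk, hv⟩)
  · have h1 : Subgroup.closure {ψ a, ψ b} ≤ L := (closure_le _).2 (by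
      rintro _ (rfl | rfl) <;> exact h.mem_L _)
    have h2 := ((Subgroup.closure {ψ a, ψ b}).subgroupOf L).card_mul_index
    rw [Nat.card_congr (subgroupOfEquivOfLe h1).toEquiv, c3, card_L] at h2
    rw [index_comap, h.range, relIndex]
    omega
  · rintro x ⟨hx, hx'⟩
    obtain ⟨n, -, rfl⟩ := id hx
    exact ((h.zero hx'.1).1 (eq_zero_of_UK _ hx'.2 (c.norm_K n.2 hx'.1).2)).resolve_right
      fun e => hy (e ▸ hx)
  · have h1 : ψ t ∈ (h.sub Ub ⊔ D).map ψ := (closure_le _).2 (by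
      rintro _ (rfl | rfl)
      exacts [⟨a, mem_sup_right ⟨a, subset_closure (by simp), rfl⟩, rfl⟩,
        ⟨b, mem_sup_right ⟨b, subset_closure (by simp), rfl⟩, rfl⟩]) ht
    obtain ⟨d, hd, e⟩ := h1
    have h2 : ψ (t * d⁻¹) = 1 := by rw [map_mul, map_inv, e, mul_inv_cancel]
    obtain ⟨v, hv, hv'⟩ := split_UK (κ (t * d⁻¹))
    obtain ⟨x, hx, rfl⟩ := h.surj v
    have h3 : t * d⁻¹ * x ∈ h.sub Ub ⊔ D :=
      (c.di _ ⟨by rw [map_mul, h2, hx, mul_one], h.mul h2 hx ▸ hv'⟩).elim (fun e => mem_sup_right (hAD e))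
        fun e => (mul_mem_cancel_left (mem_sup_left (h.y_mem _))).1 (mem_sup_right (hAD e))
    exact (mul_mem_cancel_right (inv_mem hd)).1
      ((mul_mem_cancel_right (mem_sup_left (show x ∈ h.sub Ub from ⟨hx, hv⟩))).1 h3)

end HH

variable {X : Type*} [Group X] [Finite X] {y : X} {κ : centralizer ({y} : Set X) → W 6}
  {ψ : centralizer ({y} : Set X) →* Equiv.Perm (W 6)}
  (h : HH ⟨y, mem_centralizer_singleton_iff.2 rfl⟩ κ ψ)
  (fus : ∀ a, ψ a = 1 → κ a ∈ Ub ∨ κ a ∈ Kb → a ≠ 1 → IsConj y a)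
  (two : ∀ (x : X) (s : centralizer ({y} : Set X)), ψ s = 1 → x * y * x⁻¹ = s → (s : X) ≠ y →
    ∃ t ≠ 1, ¬ IsConj y t ∧ ∀ a a' : centralizer ({y} : Set X), ψ a = 1 → ψ a' = 1 →
      (a : X) = x * a' * x⁻¹ → t * a = a * t)
include h fus two

theorem side (S : Setup X) (hS : S.f cz = y) : ∃ x, S.Side x XC1 := by
  have h1 : ∀ u ∈ S.pat pU, ∃ a : centralizer ({y} : Set X), a = u ∧ ψ a = 1 ∧ (u ≠ 1 → IsConj y u) := by
    rintro _ ⟨n, hn, rfl⟩
    have m := S.f_mem_pat hn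
    let a : centralizer ({y} : Set X) :=
      ⟨_, mem_centralizer_singleton_iff.2 (hS ▸ S.f_comm_z (Pat.okH_of hn))⟩
    obtain ⟨e1, e2⟩ := h.of_comm (a := a) (Subtype.ext (S.f_sq (Pat.okH_of hn) (H14.beq_iff.1 (Pat.all_iff.1
      (show (pU.all fun v => Nat.beq (mulN v v) cI) = true by decide +kernel) n hn)))) fun g => by
        obtain ⟨k, hk, e⟩ := S.exists_f (g := g) (by rw [hS]; exact mem_centralizer_singleton_iff.1 g.2)
        exact Subtype.ext (S.pat_U_comm _ m _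
          (H43.conj_mem_of_mem_normalizer (e ▸ S.H_le_normU hk) m))
    exact ⟨a, rfl, e1, fun e => fus a e1 e2 fun e' => e (congrArg Subtype.val e')⟩
  have m25 := S.f_mem_pat (P := pU) (n := c25) (by decide +kernel)
  obtain ⟨s, e1, e2, e3⟩ := h1 _ m25
  have o25 : okH c25 = true := by decide +kernel
  obtain ⟨x, hx | hx⟩ := S.exists_side (Or.inl rfl)
    (hS ▸ e3 fun e => absurd ((S.f_eq_one o25).1 e) (by decide))
  swap
  · exact ⟨x, hx⟩
  have hw := hx.words [[1, 2, 1, 2], [2]]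
  rw [show [[1, 2, 1, 2], [2]].map (evW XC0) = [c35, c45] by decide +kernel] at hw
  have hn : x ∈ normalizer (S.pat pU : Set X) := H43.mem_normalizer_of_conj_mem
    (S.pat_le (K := (S.pat pU).comap (MulAut.conj x).toMonoidHom) fun k hk => by
      change x * S.f (gen k) * x⁻¹ ∈ S.pat pU
      have key : ∀ c ∈ [c35, c45], comA c = true → x * S.f c * x⁻¹ = S.f c := fun c hc e =>
        mul_inv_eq_iff_eq_mul.2 (mul_inv_eq_iff_eq_mul.1 (hx.1.comm_of (hw.2 c hc).2 e)).symm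
      rcases (by decide +kernel : ∀ k ∈ pU.ps, (gen k ∈ [c35, c45] ∧ comA (gen k) = true) ∨
        pA.mem (gen k) = true ∧ pU.mem (cx (gen k)) = true) k hk with e | e
      · rw [key _ e.1 e.2]; exact S.f_mem_pat (Pat.mem_gen hk)
      · rw [(hx.1.2 _ e.1).2]; exact S.f_mem_pat e.2)
  obtain ⟨t, t1, t2, t3⟩ := two x s e2 (by
    rw [e1, ← hS, (hx.1.2 cz (by decide +kernel)).2, show cx cz = c25 by decide +kernel])
    (by rw [e1, ← hS]; exact fun e => absurd (S.f_inj o25 ok_cz e) (by decide))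
  obtain ⟨-, -, -, e⟩ := h1 t (S.cenU fun u hu => by
    obtain ⟨a, rfl, f1, -⟩ := h1 u hu
    obtain ⟨a', f2, f3, -⟩ := h1 _ (H43.inv_conj_mem_of_mem_normalizer hn hu)
    exact t3 a a' f1 f3 (by rw [f2]; group))
  exact (t2 (e t1)).elim

theorem he_of : Nonempty (X ≃* Spor.He) := by
  obtain ⟨e⟩ := h.iso
  have y1 : y ≠ 1 := fun e => h.ne (Subtype.ext e)
  obtain ⟨S, hS⟩ := exists_setup' y1 e
  obtain ⟨x, hx⟩ := side h fus two S hS
  obtain ⟨x', hx'⟩ := side h fus two S.flip (S.flip_cz.trans hS)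
  obtain ⟨_, h1⟩ := Setup.full11 S.dual_flip hx hx'
  obtain ⟨_, h2⟩ := pr_He
  have := H58.HeP.simple
  have : Nontrivial X := ⟨_, _, y1⟩
  exact h1.iso11 h2 H58.HeP.card_eq

end Cfsg.Agent.H15.He7
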