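import Cfsg.Agent.H15.He7.L
import Cfsg.Agent.H97.CoMul

/-! An element of order 7 of `M24` acting on the Leech lattice. -/

set_option autoImplicit false
set_option Elab.async false

namespace Cfsg.Agent.H15.He7

open Subgroup H14 H97 H97.Co7 H56

def mG : ℕ := nat_lit 0x85f7df7e17618df85f7df7e18df8df7617df7e186185f7e38617e176185f75d8617e386185f7df8e18617df8637df7e18df7e38618df85f7df8e18617df85f7e37e17df7df75d7e36dd8618637df8617e186185f8618617df8617e185d75f8df8617e17618638618617df86175b7df7dd8617df85f7df7e17df7df8617df85f7df7e18617e375f8df7e17df7df7618df85f7df7e18618df85f8df8e17df7e38617e385f7df7e17617df75f7e37e17e37e38617df85f8e37e185d7df85f7df7e17df7e37617df7e186185f7df8617dd86176385d8618df8617e186185f7e37617e185d8638618617df7617e186185f7df85d7e186186386175d7e386185f7df7e175d7e38637df7e17df7df8617e385f7e37e18617df85f7df7e17e38df8618e37e185d85f7df7618dd86185f8618617e38617e176175f7df75d7e186185f85d8617df8617e185d85f7df85d7e185d75f7618617df8617637df7e58617df85f7df7e17df7df8617df85f8df7e17617df85f7df8e17df7df85d8df7e176185f7df8617dd75d85f8617617df8617e186175f7e38618e186175f8617617df8617e176185f7df8618e18618637618617df85d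
def mH : ℕ := nat_lit 0x85f8616df76186185f7df8617df7dd85f7df7e17df7616df7df7e18617df8618637e18617e17df8617df7df8e18617df85d85f8dd85d7e17df85d7df7df8e18617e376175f7e18617e18e385d7df7df7e18617df85d85f7e176185f8618df76186185f7df8617df7e585f7df75f8617e386185d85f7df7617df7e175f7df8638617df86186175f8df7617df7e185f8df8e17df8617df8df7e17617df75d85f7e18617e17df8617e37df7e185d8df85d75f7e186185f8617df85d85d85f7df8618df7e185f8e37e18df8617df7df7dd8618df76185f7dd8617dd7df85d7e38df7e18617df86185f7dd8617e17e38617df7e37e17617df86175f7dd8617e17df8617df8df7dd8617df86175f8e176185f8617e38618618638e38617df7e185f7e38dd8df8617df7df7e18617df86175f7e185d7dd7df8617df7e37dd8617e385d85f7e18618e17df8617df7df7e185d7e386185f7dd7617e18df8617df8e38e185d7df86185f7e186175f85d7df85d8617637df8617df7e185f7df86385d7df86186185f7e38618df7e175f7df7e18df8617e37df7e17617e386185f8e18617e17e38617df8df7e18618e386185f7e185d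

/-- the inner product divided by 8 modulo 2 -/
def dd : leechLattice →+ leechLattice →+ ZMod 2 :=
  AddMonoidHom.mk' (fun v => AddMonoidHom.mk' (fun w => ((dotInt (v : Vec) (w : Vec) / 8 : ℤ) : ZMod 2))
    fun w w' => by rw [AddSubgroup.coe_add, dot_add_right,
      Int.add_ediv_of_dvd_right (eight_dvd_dot v.2 w'.2), Int.cast_add])
    fun v v' => AddMonoidHom.ext fun w => by
      simp only [AddMonoidHom.mk'_apply, AddMonoidHom.add_apply]
      rw [AddSubgroup.coe_add, dot_add_left, Int.add_ediv_of_dvd_right (eight_dvd_dot v'.2 w.2),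
        Int.cast_add]

theorem dd_apply (v w : leechLattice) :
    dd v w = ((dotInt (v : Vec) (w : Vec) / 8 : ℤ) : ZMod 2) := rfl

theorem dvd_iff_Bf {b : M24} {B : FB b 6} (hB : B.Is F U) {v w : leechLattice} (hv : permC b • v = v)
    (hw : permC b • w = w) : (16 : ℤ) ∣ dotInt (v : Vec) (w : Vec) ↔ Bf (B.kap v) (B.kap w) = 0 := by
  have h1 : ∀ i j, dd (B.f i) (B.f j) = Bf (Pi.single i 1) (Pi.single j 1) := fun i j => by
    rw [dd_apply, (hB i).1, (hB j).1, ← dotP_eq]
    revert i j; decide +kernel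
  have h2 : dd v w = Bf (B.kap v) (B.kap w) := by
    conv_lhs => rw [B.eq_sum hv, B.eq_sum hw]
    simp only [map_sum, map_zsmul, AddMonoidHom.finsetSum_apply, AddMonoidHom.zsmul_apply, h1,
      zsmul_eq_mul, ← FB.kap_apply]
    generalize B.kap v = x, B.kap w = y
    revert x y; decide +kernel
  obtain ⟨c, hc⟩ := eight_dvd_dot v.2 w.2
  rw [← h2, dd_apply, ZMod.intCast_zmod_eq_zero_iff_dvd]
  omega

theorem data7 {b : M24} (hb : GE.pk b = m24_7A.X) : ∃ B : FB b 6, B.Is F U ∧ B.psi.range = L ∧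
    (∀ g, B.psi g = 1 → (g : Co0) ∈ pmCyc b) ∧ B.kap (e8 none) = wpt 6 5 ∧
    ∀ x, x ∈ Ub ∨ x ∈ Kb → x ≠ 0 → ∃ v : leechLattice,
      (sqNorm (v : Vec) = 64 ∧ permC b • v = v) ∧ B.kap v = x := by
  have hc : m24_7A ∈ m24Cl := by simp [m24Cl]
  obtain ⟨a, ha⟩ := exists_rep24 (cl := m24_7B) (by simp [m24Cl])
  have ho : orderOf b = 7 := orderOf_of_ordP hb (by norm_num) (by decide +kernel)
  have hodd : Odd (orderOf b) := by rw [ho]; decide
  obtain ⟨B, hB⟩ := exists_FB hb fb
  have hg : ∀ P ∈ cB, E6.InG B.psi.range P := fun P hP =>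
    let ⟨_, _, h⟩ := gens P hP; hB.inG _ _ _ hb h
  obtain ⟨y0, e0, n0, r0⟩ := hB.rep hb reps.1
  obtain ⟨y1, e1, n1, r1⟩ := hB.rep hb reps.2.1
  obtain ⟨y2, -, n2, r2⟩ := hB.rep hb reps.2.2.1
  obtain ⟨y3, -, n3, r3⟩ := hB.rep hb reps.2.2.2
  have f0 : permC b • y0 = y0 := fix_of_fixP' hb hOK.2.2.2.2 e0
  have f1 : permC b • y1 = y1 := fix_of_fixP' hb hOK.2.2.2.1 e1
  have n4 : sqNorm ((0 : leechLattice) : Vec) = 0 := by simp [sqNorm]
  obtain ⟨k, hk⟩ := exists_isMat hOK.1
  obtain rfl := eq_e8 e0 (some 4) (by decide +kernel)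
  obtain rfl : y1 = k • e8 (some 4) :=
    Subtype.ext (e1.trans (hk.smul_vec hOK.2.2.1 (by decide +kernel)).symm)
  have s01 := r0.ne' r1 (hk.tw' ha hb hOK.2.1) (not_conj24 hb ha (by decide +kernel))
  have m0 : (5, nat_lit 0xfe) ∈ orbs := by simp [orbs]
  have m1 : (16, nat_lit 0x101010101010100) ∈ orbs := by simp [orbs]
  have o0 : (MulAction.orbit B.psi.range (wpt 6 5)).ncard = 7 :=
    (ncard_orbit hg orbs_ok m0 (List.forall_mem_cons.2 ⟨Or.inl rfl, List.forall_mem_cons.2
      ⟨Or.inr s01, fun q hq => Or.inr (by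
        revert q
        simp only [List.forall_mem_cons]
        exact ⟨r0.ne r2 (by omega) (by omega) (by omega), r0.ne r3 (by omega) (by omega) (by omega),
          r0.ne FB.rep_zero (by omega) (by omega) (by omega), by simp⟩)⟩⟩)
      (by decide +kernel)).trans (by decide +kernel)
  have hcard : Nat.card (Cen b) ≤ 2 * orderOf b * 168 := by
    have h1 := r0.card_le
    have h2 := (card_cen_mono' hc hb).trans (by decide +kernel : _ ≤ 336)
    rw [o0] at h1
    omega
  have hL : L = B.psi.range := eq_of_le_of_card_ge ((closure_le _).2 fun g h => by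
    obtain ⟨g', h1, h2⟩ := hg _ h
    exact E6.pk_injective h2 ▸ h1) (card_L ▸ B.card_range_le hodd hcard)
  refine ⟨B, hB, hL.symm, fun g h => (B.ker_eq hodd (MonoidHom.id _) Function.surjective_id
    (by rwa [← hL, card_L]) g).1 (Subtype.ext h), ?_, fun x h1 h2 => ?_⟩
  · obtain ⟨v, -, h1, h2⟩ := r0
    rw [← h1]; exact B.kap_eq_of_mk ((mk_e8 _ _).trans h2.symm)
  · rcases (by decide +kernel : ∀ x : W 6, x ∈ Ub ∨ x ∈ Kb → x ≠ 0 → tb (nat_lit 0xfe) (wix x) = true ∨
      tb (nat_lit 0x101010101010100) (wix x) = true) x h1 h2 with h | h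
    · obtain ⟨g, hg', rfl⟩ := orbs_sound hg orbs_ok m0 h
      obtain ⟨v, hv, e⟩ := r0.exists_fix f0 hg'
      exact ⟨v, ⟨hv.1.trans n0, hv.2⟩, e⟩
    · obtain ⟨g, hg', rfl⟩ := orbs_sound hg orbs_ok m1 h
      obtain ⟨v, hv, e⟩ := r1.exists_fix f1 hg'
      exact ⟨v, ⟨hv.1.trans n1, hv.2⟩, e⟩

theorem cwO : IsCw (bits 8536111) := isCw_bits (by decide +kernel)

/-- a minimal vector supported on an invariant octad -/
def vO : leechLattice := ⟨_, vTwo_mem cwO⟩

variable {b : M24} (hb : GE.pk b = m24_7A.X)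
include hb

theorem fix_vO : permC b • vO = vO :=
  fix_of_fixP' (X := 0x8a08208208a08228208208208208a08a28a2) hb (by decide +kernel) (by decide +kernel)

theorem sign_vO {k : Co0} (hk : k ∈ signG) (h : k * permC b = permC b * k) :
    k • vO = vO ∨ k • vO = -vO := by
  obtain ⟨c, hc, rfl⟩ := hk
  obtain ⟨x, hx, rfl⟩ := mem_cSets_iff.1 hc
  have h1 := permC_conj_signC b _ hc
  rw [← h, mul_inv_cancel_right] at h1
  have h2 := signC_inj h1
  rw [smul_bits', hb] at h2
  have h3 := all2_iff.1 (show all2 64 64 (fun x => force (enc x) fun e =>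
    bimp (Nat.beq e (img (nat_lit 5) (nat_lit 32) (nat_lit 24) m24_7A.X e))
      (Nat.beq (Nat.land e 8536111) 0 || Nat.beq (Nat.land e 8536111) 8536111)) = true by
    decide +kernel) x hx
  rw [force_eq, bimp_iff, beq_iff, Bool.or_eq_true, beq_iff, beq_iff] at h3
  refine (h3 (bits_inj (enc_lt hx) (hb ▸ GE.img_pk_lt _ _) h2)).imp (fun e => ?_) fun e => ?_ <;>
    refine Subtype.ext (funext fun i => ?_) <;>
    have := (Nat.testBit_and _ _ (idx i)).symm.trans (congrArg (·.testBit (idx i)) e) <;>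
    simp only [signC_apply, vO, vTwo, mem_bits, AddSubgroup.coe_neg, Pi.neg_apply] <;>
    revert this <;> cases (enc x).testBit (idx i) <;> cases Nat.testBit 8536111 (idx i) <;> simp

theorem exists_sq : ∃ σ : M24, σ * b = b ^ 2 * σ := by
  obtain ⟨σ, hσ, e⟩ := inG_of_memOK m24_chain (l := [0x71e0f9ca2d40eaa62d3435824b9440])
    (by decide +kernel) _ List.mem_cons_self
  refine ⟨⟨σ, hσ⟩, Subtype.ext (GE.pk_injective ?_)⟩
  simp only [coe_mul, pow_two, GE.pk_mul, e, hb]
  decide +kernel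

theorem not_inv (σ : M24) : σ * b * σ⁻¹ ≠ b⁻¹ :=
  not_conj24 hb (Q := inv 5 32 24 m24_7A.X) (by rw [coe_inv, GE.pk_inv, hb]) (by decide +kernel) σ

theorem exists_inv : ∃ k : Co0, ∃ ε ∈ signG, ε * (k * permC b * k⁻¹) * ε * (k * permC b * k⁻¹) = 1 := by
  obtain ⟨g, hg⟩ := exists_pkC (A := mG) (by decide +kernel)
  obtain ⟨k, hk⟩ := exists_pkC (A := mH) (by decide +kernel)
  have hD : IsCw (bits 16611456) := isCw_bits (by decide +kernel)
  have e1 := pkC_mono hD 1
  have e2 := pkC_mono (m := 0) (isCw_bits (by decide +kernel)) b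
  rw [permC_one, mul_one, coe_one, GE.pk_one] at e1
  rw [signC_congr (hd := isCw_empty) bits_zero, signC_empty, one_mul, hb] at e2
  obtain rfl : k⁻¹ = g := inv_eq_of_mul_eq_one_right (pkC_inj.1 (by
    rw [pkC_mul, hg, hk, pkC_one]; decide +kernel))
  refine ⟨k, _, signC_mem_signG _ hD, ?_⟩
  rw [mul_assoc _ (signC _ _), ← pkC_inj, pkC_mul, pkC_mul, pkC_mul, pkC_mul, e1, e2, hg, hk, pkC_one]
  have : force (mulC (monoC 16611456 (idP 5 24)) (mulC (mulC mH (monoC 0 m24_7A.X)) mG))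
    (fun X => Nat.beq (mulC X X) idC) = true := by decide +kernel
  rwa [force_eq, beq_iff] at this

end Cfsg.Agent.H15.He7
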