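import Cfsg.Agent.H15.CenCo7

/-! The group `L₃(2)` acting on `F₂³ ⊕ F₂³`. -/

set_option autoImplicit false
set_option Elab.async false

namespace Cfsg.Agent.H15.He7

open Subgroup H14 H97 H56

def cLL0 : Lev := ⟨nat_lit 1, nat_lit 254, (.node (nat_lit 4) (.node (nat_lit 2) (.leaf (nat_lit 0xffef7cefae78df6d74cf2c70beeb6caeaa689e69648e28607de75c6da6585d65544d24503ce34c2ca2481c61440c2040)) (.node (nat_lit 3) (.leaf (nat_lit 0x5165574d149071e75f6d9698b2eb6fae9aa89269678e18a0d36d77cf1cb0f3ef7fef9eb830e34f2c92881061470c1080)) (.leaf (nat_lit 0xb6aaeca6ebe8f7aefce7eff89628e48669e0d72cf4c76df075a6dc65e7d834a2cc24e3c85524d44565d01420c40461c0)))) (.node (nat_lit 6) (.node (nat_lit 5) (.leaf (nat_lit 0x30a3c934b38871a7d975b798f3aff9f7bfb8b2abe9b6bba89229e19639a0d32df1d73db05125d15535901021c1143180)) (.leaf (nat_lit 0x8e68649e2960aeea6cbeab68cf6c74df2d70efee7cffaf786de65c7da7584d64545d25502ce24c3ca3480c60441c2140)))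 (.node (nat_lit 7) (.leaf (nat_lit 0xb69aefaaeb285514d74965109618e78a69207596df69e718d71cf7cb6d303492cf28e308f79effebef381410c7086100)) (.leaf (nat_lit 0xc72df4d76cf08629e49668e0e7affcf7eef8a6abecb6eae865a7dc75e6d824a3cc34e2c84525d45564d00421c41460c0)))))⟩
def cLC0 : LevCert := ⟨cLL0,
    [(nat_lit 3, nat_lit 0), (nat_lit 2, nat_lit 1), (nat_lit 5, nat_lit 0), (nat_lit 6, nat_lit 0), (nat_lit 7, nat_lit 0), (nat_lit 4, nat_lit 1)],
    [[nat_lit 2, nat_lit 0, nat_lit 0, nat_lit 2], [nat_lit 2, nat_lit 2, nat_lit 2, nat_lit 4, nat_lit 2, nat_lit 4, nat_lit 2]],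
    [nat_lit 0xffeebbf3de78df6cb3d35c707de69b71d6585d6493515450beeaabb2da689e68a39258603ce28b30d2481c6083105040, nat_lit 0xb6cbafaaba6855459749345075c79f69b6589649a78a386034c38f28b248d74db7cb3c70f7cfbfebbe78144187083040]⟩
def cLL1 : Lev := ⟨nat_lit 2, nat_lit 252, (.node (nat_lit 5) (.node (nat_lit 3) (.leaf (nat_lit 0xffef7cefae78df6d74cf2c70beeb6caeaa689e69648e28607de75c6da6585d65544d24503ce34c2ca2481c61440c2040)) (.node (nat_lit 4) (.leaf (nat_lit 0xb6cbafaaba6855459749345075c79f69b6589649a78a386034c38f28b248d74db7cb3c70f7cfbfebbe78144187083040)) (.leaf (nat_lit 0xb6caeabeea685544d25d645034c2ca3ce248d74cf2df6c7075c6da7de6589648e29e6860f7cefaffee781440c21c6040)))) (.node (nat_lit 6) (.leaf (nat_lit 0xffeebbf3de78df6cb3d35c707de69b71d6585d6493515450beeaabb2da689e68a39258603ce28b30d2481c6083105040)) (.node (nat_lit 7) (.leaf (nat_lit 0x2ca30d38f2488e29259a78606da71d79f658cf2d35db7c70efaf3dfbfe784d2515597450aeab2dbafa680c2105187040))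 (.leaf (nat_lit 0x69b79f75c6588a39a7964860aabbafb6ca6849359755445028b38f34c248cb3db7d74c70ebbfbff7ce78083187144040)))))⟩
def cLC1 : LevCert := ⟨cLL1,
    [(nat_lit 5, nat_lit 0), (nat_lit 3, nat_lit 1), (nat_lit 7, nat_lit 1), (nat_lit 4, nat_lit 0), (nat_lit 6, nat_lit 1)],
    [[nat_lit 2, nat_lit 0, nat_lit 2, nat_lit 2, nat_lit 0, nat_lit 2, nat_lit 2], [nat_lit 4, nat_lit 2, nat_lit 2, nat_lit 4]],
    [nat_lit 0xf7cffeefae785545d64d245034c3ce2ca2489649e68e286075c7de6da658d74df6cf2c70b6cbeeaeaa681441c60c2040, nat_lit 0x79f71d6da658db7d35cf2c7038f30d2ca2489a79258e2860fbff3defae785975154d2450bafb2daeaa681871050c2040]⟩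
def cLL2 : Lev := ⟨nat_lit 4, nat_lit 240, (.node (nat_lit 6) (.node (nat_lit 5) (.leaf (nat_lit 0xffef7cefae78df6d74cf2c70beeb6caeaa689e69648e28607de75c6da6585d65544d24503ce34c2ca2481c61440c2040)) (.leaf (nat_lit 0x79f71d6da658db7d35cf2c7038f30d2ca2489a79258e2860fbff3defae785975154d2450bafb2daeaa681871050c2040))) (.node (nat_lit 7) (.leaf (nat_lit 0xf7cffeefae785545d64d245034c3ce2ca2489649e68e286075c7de6da658d74df6cf2c70b6cbeeaeaa681441c60c2040)) (.leaf (nat_lit 0x71d79f6da6585155974d2450b2dbafaeaa689259a78e2860f3dfbfefae78d35db7cf2c7030d38f2ca2481051870c2040))))⟩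
def cLC2 : LevCert := ⟨cLL2,
    [(nat_lit 6, nat_lit 0), (nat_lit 5, nat_lit 1), (nat_lit 7, nat_lit 1)],
    [],
    []⟩
def cL : List LevCert := [cLC0, cLC1, cLC2]
def cLL : List Lev := [cLL0, cLL1, cLL2]
def al : ℕ := nat_lit 0x71d79f6da6585155974d2450b2dbafaeaa689259a78e2860f3dfbfefae78d35db7cf2c7030d38f2ca2481051870c2040
def be : ℕ := nat_lit 0xbafb6caaba68db7d74cb3c70fbff7cebbe789a79648a386038f34c28b24859755449345079f75c69b658187144083040
def cj : List ℕ := [nat_lit 0xffef7cefae78df6d74cf2c70beeb6caeaa689e69648e28607de75c6da6585d65544d24503ce34c2ca2481c61440c2040, nat_lit 0xf7effce7aef8b6ebeca6aae8d76df4c72cf09669e48628e075e7dc65a6d834e3cc24a2c85565d44524d01461c40420c0, nat_lit 0xb6cbafaaba6855459749345075c79f69b6589649a78a386034c38f28b248d74db7cb3c70f7cfbfebbe78144187083040, nat_lit 0xbafaeab2da68db7cf2d35c7038f2ca30d2485974d2515450fbfefaf3de789a78e292586079f6da71d6581870c2105040, nat_lit 0xaeab6cbeea688e29649e6860efaf7cffee78cf2d74df6c706da75c7de6584d25545d64502ca34c3ce2480c21441c6040,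 nat_lit 0xf7cebbfbfe7855449359745075c69b79f658d74cb3db7c7034c28b38f2489648a39a7860b6caabbafa68144083187040, nat_lit 0xebbffef3de788a39e692586028b3ce30d2484935d6515450aabbeeb2da68cb3df6d35c7069b7de71d6580831c6105040, nat_lit 0x5174525954d030f24a38d2c8d37c72db5cf0b2fa6abadae8f3fe7afbdef89278629a58e071f65a79d6d81070421850c0, nat_lit 0xc72df4d76cf08629e49668e0e7affcf7eef8a6abecb6eae865a7dc75e6d824a3cc34e2c84525d45564d00421c41460c0, nat_lit 0x30a3c934b38871a7d975b798f3aff9f7bfb8b2abe9b6bba89229e19639a0d32df1d73db05125d15535901021c1143180, nat_lit 0x8a48679639a069c65f75b798494457553590aaca6fb6bba828c24f34b388cb4c77d73db0ebce7ff7bfb8084047143180, nat_lit 0x5125535d159071a75b7d9798f3af7bff9fb8d32d73df1db09229639e19a0b2ab6bbe9ba830a34b3c93881021431c1180, nat_lit 0x69f79b65c758ebffbbe7cf78cb7db3c74d7049759345455028f38b24c348aafbaba6cb688a79a3864960087183044140, nat_lit 0xffbf79fbaf383cb34938a308bebb69baab287db75979a7189e39619a29205d3551592510df3d71db2d301c3141182100,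 nat_lit 0x79b69f65c758babaafa6cb689a38a786496059349745455038b28f24c348fbbebfe7cf78db3cb7c74d70183087044140, nat_lit 0xb6aaeca6ebe8f7aefce7eff89628e48669e0d72cf4c76df075a6dc65e7d834a2cc24e3c85524d44565d01420c40461c0, nat_lit 0x8668e49629e0c76cf4d72df0a6eaecb6abe8e7eefcf7aff865e6dc75a7d824e2cc34a3c84564d45525d00460c41421c0, nat_lit 0xdf2c74cf6d70ffae7cefef789e28648e6960beaa6caeeb687da65c6de7585d24544d65503ca24c2ce3481c20440c6140, nat_lit 0xc75db2cf7d304555924d7510a6dbaaaefb2824d38a2cf308e7dfbaefff3865d79a6df7188659a28e79200451820c7100, nat_lit 0x8e68649e2960aeea6cbeab68cf6c74df2d70efee7cffaf786de65c7da7584d64545d25502ce24c3ca3480c60441c2140, nat_lit 0x2cd30a24f388aedb2aa6fba84d5512457590cf5d32c77db0efdf3ae7ffb86dd71a65f7988e59228679a00c5102047180]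
def mx : List ℕ := [nat_lit 0xbaaaefa6db2879a6df65d7189a28e78659205924d7455510fbaeffe7df3838a2cf24d308db2cf7c75d301820c7045100, nat_lit 0x8a58669239e0ebde7ef3bff84954565135d028d24e30b3c8aada6eb2bbe8cb5c76d33df069d65e71b7d80850461031c0, nat_lit 0x5535125d1590b6bb2abe9ba834b30a3c9388d73d32df1db09639229e19a075b71a7d9798f7bf3aff9fb81431021c1180]
def cDL0 : Lev := ⟨nat_lit 1, nat_lit 2, (.leaf (nat_lit 0xffef7cefae78df6d74cf2c70beeb6caeaa689e69648e28607de75c6da6585d65544d24503ce34c2ca2481c61440c2040))⟩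
def cDC0 : LevCert := ⟨cDL0,
    [],
    [[nat_lit 0], [nat_lit 4]],
    [nat_lit 0x71d79f6da6585155974d2450b2dbafaeaa689259a78e2860f3dfbfefae78d35db7cf2c7030d38f2ca2481051870c2040, nat_lit 0xbafb6caaba68db7d74cb3c70fbff7cebbe789a79648a386038f34c28b24859755449345079f75c69b658187144083040]⟩
def cDL1 : Lev := ⟨nat_lit 2, nat_lit 12, (.node (nat_lit 3) (.leaf (nat_lit 0xffef7cefae78df6d74cf2c70beeb6caeaa689e69648e28607de75c6da6585d65544d24503ce34c2ca2481c61440c2040)) (.leaf (nat_lit 0xbafb6caaba68db7d74cb3c70fbff7cebbe789a79648a386038f34c28b24859755449345079f75c69b658187144083040)))⟩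
def cDC1 : LevCert := ⟨cDL1,
    [(nat_lit 3, nat_lit 1)],
    [[nat_lit 2, nat_lit 0, nat_lit 0, nat_lit 0, nat_lit 2, nat_lit 0, nat_lit 2, nat_lit 2, nat_lit 0], [nat_lit 4, nat_lit 2, nat_lit 4, nat_lit 4, nat_lit 2, nat_lit 4, nat_lit 2, nat_lit 2, nat_lit 2]],
    [nat_lit 0xf7cffeefae785545d64d245034c3ce2ca2489649e68e286075c7de6da658d74df6cf2c70b6cbeeaeaa681441c60c2040, nat_lit 0x71d79f6da6585155974d2450b2dbafaeaa689259a78e2860f3dfbfefae78d35db7cf2c7030d38f2ca2481051870c2040]⟩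
def cDL2 : Lev := ⟨nat_lit 4, nat_lit 240, (.node (nat_lit 6) (.node (nat_lit 5) (.leaf (nat_lit 0xffef7cefae78df6d74cf2c70beeb6caeaa689e69648e28607de75c6da6585d65544d24503ce34c2ca2481c61440c2040)) (.leaf (nat_lit 0x79f71d6da658db7d35cf2c7038f30d2ca2489a79258e2860fbff3defae785975154d2450bafb2daeaa681871050c2040))) (.node (nat_lit 7) (.leaf (nat_lit 0xf7cffeefae785545d64d245034c3ce2ca2489649e68e286075c7de6da658d74df6cf2c70b6cbeeaeaa681441c60c2040)) (.leaf (nat_lit 0x71d79f6da6585155974d2450b2dbafaeaa689259a78e2860f3dfbfefae78d35db7cf2c7030d38f2ca2481051870c2040))))⟩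
def cDC2 : LevCert := ⟨cDL2,
    [(nat_lit 6, nat_lit 0), (nat_lit 7, nat_lit 1), (nat_lit 5, nat_lit 1)],
    [],
    []⟩
def cD : List LevCert := [cDC0, cDC1, cDC2]
def cDL : List Lev := [cDL0, cDL1, cDL2]

/-- the numbering of the vectors -/
abbrev E6 : Enc (W 6) 64 6 64 := bvEnc 6 64 6 64 rfl rfl le_rfl

/-- the group `L₃(2)` -/
def L : Subgroup (Equiv.Perm (W 6)) := E6.grp Co7.cB

theorem chainL : E6.IsChain cLL L := chain_grp (cert := cL) (by decide +kernel)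

theorem card_L : Nat.card L = 168 := chainL.card.trans (by decide +kernel)

/-- the bilinear form -/
def Bf (u v : W 6) : ZMod 2 := u 0 * v 3 + u 1 * v 3 + u 1 * v 4 + u 2 * v 5 +
  (u 3 * v 0 + u 3 * v 1 + u 4 * v 1 + u 5 * v 2)

/-- the first invariant subspace -/
def Ub : AddSubgroup (W 6) where
  carrier := {v | v 3 = 0 ∧ v 4 = 0 ∧ v 5 = 0}
  zero_mem' := ⟨rfl, rfl, rfl⟩
  add_mem' ha hb := by simp_all
  neg_mem' ha := by simp_all

/-- the second invariant subspace -/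
def Kb : AddSubgroup (W 6) where
  carrier := {v | v 0 = 0 ∧ v 1 = 0 ∧ v 2 = 0}
  zero_mem' := ⟨rfl, rfl, rfl⟩
  add_mem' ha hb := by simp_all
  neg_mem' ha := by simp_all

instance : DecidablePred (· ∈ Ub) := fun v => inferInstanceAs (Decidable (v 3 = 0 ∧ v 4 = 0 ∧ v 5 = 0))
instance : DecidablePred (· ∈ Kb) := fun v => inferInstanceAs (Decidable (v 0 = 0 ∧ v 1 = 0 ∧ v 2 = 0))

theorem card_Ub : Nat.card Ub = 8 := by rw [Nat.card_eq_fintype_card]; decide +kernel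

theorem forall_W {p : W 6 → Prop} (h : ∀ c < 64, p (wpt 6 c)) (v : W 6) : p v :=
  wpt_wix v ▸ h _ (E6.ix_lt v)

theorem wpt_mem_Ub : ∀ c < 64, (wpt 6 c ∈ Ub ↔ c < 8) := by decide +kernel
theorem wpt_mem_Kb : ∀ c < 64, (wpt 6 c ∈ Kb ↔ c % 8 = 0) := by decide +kernel

theorem app_wpt (g : Equiv.Perm (W 6)) {c : ℕ} (hc : c < 64) :
    g (wpt 6 c) = wpt 6 (app 6 64 (E6.pk g) c) := E6.apply_pt g hc

theorem L_inv {g : Equiv.Perm (W 6)} (hg : g ∈ L) (v : W 6) :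
    (v ∈ Ub → g v ∈ Ub) ∧ (v ∈ Kb → g v ∈ Kb) := by
  have := chainL.forall_of_allElts (f := fun P => allN 64 fun c =>
    bimp (Nat.blt c 8) (Nat.blt (app 6 64 P c) 8) &&
      bimp (Nat.beq (c % 8) 0) (Nat.beq (app 6 64 P c % 8) 0)) (by decide +kernel) g hg
  simp only [allN_iff, Bool.and_eq_true, bimp_iff, Nat.blt_eq, beq_iff] at this
  revert v
  refine forall_W fun c hc => ?_
  rw [app_wpt g hc, wpt_mem_Ub c hc, wpt_mem_Kb c hc, wpt_mem_Ub _ (E6.app_pk_lt g hc),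
    wpt_mem_Kb _ (E6.app_pk_lt g hc)]
  exact this c hc

theorem L_eq_one {g : Equiv.Perm (W 6)} (hg : g ∈ L)
    (h : (∀ v ∈ Ub, g v = v) ∨ ∀ v ∈ Kb, g v = v) : g = 1 := by
  have := chainL.forall_of_allElts (f := fun P => bimp
    (allL [1, 2, 4] (fun c => Nat.beq (app 6 64 P c) c) || allL [8, 16, 32] fun c => Nat.beq (app 6 64 P c) c)
    (Nat.beq P (idP 6 64))) (by decide +kernel) g hg
  rw [bimp_iff, beq_iff, ← E6.pk_one, E6.pk_inj, Bool.or_eq_true, allL_iff, allL_iff] at this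
  have key : ∀ c < 64, g (wpt 6 c) = wpt 6 c → Nat.beq (app 6 64 (E6.pk g) c) c = true := fun c hc e => by
    rw [beq_iff, E6.app_pk_of_lt g hc]
    exact (congrArg wix e).trans (E6.ix_pt c hc)
  refine this (h.imp (fun h c hc => ?_) fun h c hc => ?_)
  · have : c < 64 ∧ wpt 6 c ∈ Ub := by revert c; decide +kernel
    exact key c this.1 (h _ this.2)
  · have : c < 64 ∧ wpt 6 c ∈ Kb := by revert c; decide +kernel
    exact key c this.1 (h _ this.2)

theorem L_conj {g g' : Equiv.Perm (W 6)} (hg : g ∈ L) (h1 : g ≠ 1) (h2 : g * g = 1) (hg' : g' ∈ L)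
    (h1' : g' ≠ 1) (h2' : g' * g' = 1) : ∃ h ∈ L, h * g * h⁻¹ = g' := by
  have key : ∀ g ∈ L, g ≠ 1 → g * g = 1 → ∃ h ∈ L, E6.pk (h * g * h⁻¹) = al := fun g hg h1 h2 => by
    have := chainL.forall_of_allElts (f := fun P => bimp (Nat.beq (comp 6 64 64 P P) (idP 6 64))
      (Nat.beq P (idP 6 64) || anyL cj fun h => Nat.beq (comp3 6 64 64 h P (inv 6 64 64 h)) al))
      (by decide +kernel) g hg
    rw [bimp_iff, beq_iff, ← E6.pk_mul, ← E6.pk_one, E6.pk_inj, Bool.or_eq_true, beq_iff, E6.pk_inj,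
      anyL_iff] at this
    obtain ⟨P, hP, e⟩ := (this h2).resolve_left h1
    obtain ⟨h, hh, rfl⟩ := inG_of_memOK chainL (l := cj) (by decide +kernel) P hP
    exact ⟨h, hh, by rw [E6.pk_mul3, E6.pk_inv, beq_iff.1 e]⟩
  obtain ⟨h, hh, e⟩ := key g hg h1 h2
  obtain ⟨k, hk, e'⟩ := key g' hg' h1' h2'
  refine ⟨k⁻¹ * h, mul_mem (inv_mem hk) hh, ?_⟩
  have := E6.pk_injective (e.trans e'.symm)
  calc _ = k⁻¹ * (h * g * h⁻¹) * k := by group
    _ = g' := by rw [this]; group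

theorem exists_D8 : ∃ a ∈ L, ∃ b ∈ L, a ≠ 1 ∧ a * a = 1 ∧ b ≠ 1 ∧ b * b = 1 ∧ (a * b) ^ 2 ≠ 1 ∧
    (a * b) ^ 2 * (a * b) ^ 2 = 1 ∧ Nat.card (closure {a, b}) = 8 := by
  have h := inG_of_memOK chainL (l := [al, be]) (by decide +kernel)
  obtain ⟨a, ha, ea⟩ := h al (by simp)
  obtain ⟨b, hb, eb⟩ := h be (by simp)
  have hc : E6.IsChain cDL (E6.grp [al, be]) := chain_grp (cert := cD) (by decide +kernel)
  refine ⟨a, ha, b, hb, ?_, ?_, ?_, ?_, ?_, ?_, ?_⟩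
  any_goals simp only [Ne, pow_two, ← E6.pk_inj, E6.pk_mul, E6.pk_one, ea, eb]; decide +kernel
  have : closure {a, b} = E6.grp [al, be] := by
    refine congrArg Subgroup.closure (Set.ext fun g => ?_)
    rw [Set.mem_setOf_eq, ← ea, ← eb, List.mem_cons, List.mem_singleton, E6.pk_inj, E6.pk_inj]
    rfl
  rw [this, hc.card]; decide +kernel

theorem mixed (v : W 6) (h1 : v ∉ Ub) (h2 : v ∉ Kb) : ∃ g ∈ L, Bf v (g v) ≠ 0 := by
  revert v
  refine forall_W fun c hc h1 h2 => ?_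
  have : ∀ c < 64, wpt 6 c ∉ Ub → wpt 6 c ∉ Kb →
      ∃ P ∈ mx, Bf (wpt 6 c) (wpt 6 (app 6 64 P c)) ≠ 0 := by decide +kernel
  obtain ⟨P, hP, e⟩ := this c hc h1 h2
  obtain ⟨g, hg, rfl⟩ := inG_of_memOK chainL (l := mx) (by decide +kernel) P hP
  exact ⟨g, hg, by rwa [app_wpt g hc]⟩

theorem Bf_U : ∀ v : W 6, (∀ u ∈ Ub, Bf v u = 0) ↔ v ∈ Ub := by decide +kernel
theorem Bf_K : ∀ v : W 6, (∀ u ∈ Kb, Bf v u = 0) ↔ v ∈ Kb := by decide +kernel
theorem eq_zero_of_UK : ∀ v ∈ Ub, v ∈ Kb → v = 0 := by decide +kernel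
theorem Bf_add : ∀ s u v : W 6, Bf (u + v) s = Bf u s + Bf v s := fun s u v => by
  simp only [Bf, Pi.add_apply]; ring
theorem exists_Bf (e : Fin 3 → ZMod 2) : ∃ v : W 6, Bf v (wpt 6 8) = e 0 ∧ Bf v (wpt 6 16) = e 1 ∧
    Bf v (wpt 6 32) = e 2 := by revert e; decide +kernel

end Cfsg.Agent.H15.He7
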