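import Cfsg.Agent.H15.He7.A
import Cfsg.Agent.H15.He7.D
import Cfsg.Agent.H15.Monster5

/-! Groups of Monster type: elements of order 7 of `C(z, s)`. -/

set_option autoImplicit false

namespace Cfsg.Agent.H15

open Subgroup H97 H14 He7

theorem exists_tw_lift {A B : Type*} [Group A] [Group B] (f : A →* B) {p : ℕ} (hp : p.Prime)
    (hk : ¬ p ∣ Nat.card f.ker) {β γ a : A} (hβ : β ^ p = 1) (hγ : γ ^ p = 1)
    (h : f γ * f a = f a * f β) : ∃ c, f c = f a ∧ γ * c = c * β := by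
  obtain ⟨c, h1, h2⟩ := exists_fixed (β := Equiv.mulLeft γ * Equiv.mulRight β⁻¹) hp (by
      have : ∀ n : ℕ, ∀ x, ((Equiv.mulLeft γ * Equiv.mulRight β⁻¹) ^ n) x = γ ^ n * x * (β ^ n)⁻¹ :=
        fun n x => by
          induction n with
          | zero => simp
          | succ n ih => rw [pow_succ', Equiv.Perm.mul_apply, ih, pow_succ', pow_succ']; simp [mul_assoc]
      exact Equiv.ext fun x => by simp [this, hβ, hγ])
    (S := {c | f c = f a}) (fun c hc => by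
      change f (γ * (c * β⁻¹)) = _
      rw [map_mul, map_mul, hc, ← mul_assoc, h, map_inv, mul_inv_cancel_right]) (by
      rwa [← Nat.card_coe_set_eq, show Nat.card {x | f x = f a} = Nat.card f.ker from
        Nat.card_congr (f.fiberEquivKer a)])
  exact ⟨c, h1, mul_inv_eq_iff_eq_mul.1 ((mul_assoc _ _ _).trans h2)⟩

theorem exists_conj_permC' {p : ℕ} (hp : p.Prime) (ho : Odd p) (k : monoN) (hk : k ^ p = 1) :
    ∃ m : monoN, (m : Co0) * k * (m : Co0)⁻¹ = permC (monoP k) := by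
  obtain ⟨c, -, e⟩ := exists_tw_lift monoP hp (by
      have : monoP.ker = signG.subgroupOf monoN := Subgroup.ext monoP_eq_one_iff
      rw [this, Nat.card_congr (subgroupOfEquivOfLe signG_le).toEquiv, card_signG]
      exact not_dvd_two_pow hp ho 12) hk (γ := ⟨_, permC_mem_monoN (monoP k)⟩) (a := 1)
    (Subtype.ext (by
      change permHom _ ^ p = 1
      rw [← map_pow, ← map_pow, hk, map_one, map_one])) (by rw [monoP_permC, map_one, mul_one, one_mul])
  exact ⟨c, mul_inv_eq_iff_eq_mul.2 (congrArg Subtype.val e).symm⟩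

theorem monoP_congr {k k' : monoN} (h : ((k : Co0) : Spor.Co1) = (k' : Co0)) : monoP k = monoP k' := by
  rw [← inv_mul_eq_one, ← map_inv, ← map_mul, monoP_eq_one_iff]
  rcases mem_center_iff'.1 (QuotientGroup.eq.1 h) with e | e
  exacts [(show ((k⁻¹ * k' : monoN) : Co0) = 1 from e) ▸ signG.one_mem,
    (show ((k⁻¹ * k' : monoN) : Co0) = negC from e) ▸ negC_mem_signG]

theorem comm_of_zpowers {G : Type*} [Group G] {β γ y : G} (h : γ ∈ zpowers β) (e : y * β = β * y) :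
    y * γ = γ * y := by
  obtain ⟨i, rfl⟩ := h
  exact Commute.zpow_right e i

theorem pow_of_zpowers {G : Type*} [Group G] {β γ : G} {p : ℕ} (h : γ ∈ zpowers β) (e : β ^ p = 1) :
    γ ^ p = 1 := by
  obtain ⟨i, rfl⟩ := h
  rw [← zpow_natCast, ← zpow_mul, mul_comm, zpow_mul, zpow_natCast, e, one_zpow]

theorem o7 {b : M24} (hb : GE.pk b = m24_7A.X) : orderOf b = 7 :=
  orderOf_of_ordP hb (by norm_num) (by decide +kernel)

theorem b7 {b : M24} (hb : GE.pk b = m24_7A.X) : permC b ^ 7 = 1 := by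
  rw [← permHom_apply, ← map_pow, ← o7 hb, pow_orderOf_eq_one, map_one]

universe u

variable {G : Type u} [Group G] {z : G}

namespace MD

variable {Q : Subgroup G} {π : centralizer ({z} : Set G) →* Spor.Co1}
  {R : G → leechLattice → Prop} (M : MD z Q π R)
include M

theorem q4 {a : G} (ha : a ∈ Q) : a ^ 2 ^ 2 = 1 := by
  rw [show 2 ^ 2 = 2 * 2 from rfl, pow_mul, pow_two a]
  rcases M.lx.sqr a ha with e | e <;> rw [e]
  exacts [one_pow _, (pow_two _).trans M.lx.sq]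

theorem card_ker : Nat.card π.ker = 2 ^ 25 := by
  rw [show π.ker = Q.subgroupOf _ from by ext h; rw [MonoidHom.mem_ker, M.ker, mem_subgroupOf],
    Nat.card_congr (subgroupOfEquivOfLe fun a ha =>
      mem_centralizer_singleton_iff.2 (M.lx.cen a ha)).toEquiv, M.card]

theorem comm_of_fix {p : ℕ} (ho : Odd p) {β : centralizer ({z} : Set G)} (hβ : (β : G) ^ p = 1)
    {k : Co0} (hπ : (k : Spor.Co1) = π β) {q : G} {v : leechLattice} (h : R q v) (hv : k • v = v) :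
    q * β = β * q := by
  have h1 := M.conj _ _ hπ h
  rw [hv] at h1
  rw [eq_comm, ← mul_inv_eq_iff_eq_mul]
  refine (M.uniq h h1).resolve_right fun e => M.lx.ne ?_
  have h2 : ∀ n : ℕ, (β : G) ^ n * q = z ^ n * q * β ^ n := fun n => by
    induction n with
    | zero => simp
    | succ n ih =>
      rw [pow_succ', mul_assoc, ih, ← mul_assoc, ← mul_assoc,
        (Commute.pow_right (mem_centralizer_singleton_iff.1 β.2) n).eq, mul_assoc _ (β : G),
        mul_inv_eq_iff_eq_mul.1 e, pow_succ]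
      simp only [mul_assoc]
  have h3 := h2 p
  rw [hβ, one_mul, mul_one, eq_comm, mul_eq_right] at h3
  exact eq_one_of_odd ho h3 (M.q4 M.lx.mem)

variable [Finite G] {g : G} (hs : g * z * g⁻¹ ∈ Q) (hne : g * z * g⁻¹ ≠ z)
include hs hne

theorem not_conj_two {t : G} {v : leechLattice} (h : R t v) (hv : sqNorm (v : Vec) = 32) :
    t ≠ 1 ∧ ¬ IsConj z t := by
  have n1 := M.ne_of_short h (by omega) (by omega)
  refine ⟨n1.1, fun hc => ?_⟩
  obtain ⟨c, rfl⟩ := isConj_iff.1 hc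
  obtain ⟨v', hv', h4⟩ := M.type_four (M.mem h) n1.2
  have := M.norm_eq h hv' (by omega) (by omega) (by omega) (by omega)
  omega

theorem comm_elt (h8 : R (g * z * g⁻¹) (e8 none)) {k : Co0} (hk : k ∈ signG) {q : G} {v : leechLattice}
    (hq : R q v) (hv : (16 : ℤ) ∣ 8 * (v : Vec) none) : ∃ a ∈ cjs g Q,
      a * q * a⁻¹ * q⁻¹ ∈ cjs g Q ∧ R (a * q * a⁻¹ * q⁻¹) (k • v + -v) := by
  obtain ⟨a, ha, e⟩ := mem_pb.1 ((M.pb_A hs hne h8).1 ▸ hk)
  have h1 := (M.comm_iff hq h8).2 (by rwa [dot_e8])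
  refine ⟨a, ha.1, ?_, M.mul (M.conj a _ e hq) (M.neg (M.inv hq))⟩
  simpa [mul_assoc] using (cjs g Q).mul_mem ha.1 ((M.cj g).lx.norm q h1 _ ((cjs g Q).inv_mem ha.1))

/-- sign changes lift to involutions -/
theorem exists_invol (h8 : R (g * z * g⁻¹) (e8 none)) {k : Co0} (hk : k ∈ signG) :
    ∃ t : centralizer ({z} : Set G), t * t = 1 ∧ (k : Spor.Co1) = π t := by
  have Ms := M.cj g
  obtain ⟨a, ha, e⟩ := mem_pb.1 ((M.pb_A hs hne h8).1 ▸ hk)
  have h1 : ∀ c ∈ Q ⊓ cjs g Q, c * c = 1 := fun c hc => (M.lx.sqr c hc.1).resolve_right fun e =>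
    (Ms.lx.sqr c hc.2).elim (fun e' => M.lx.ne (e.symm.trans e')) fun e' => hne (e'.symm.trans e)
  rcases Ms.lx.sqr a ha.1 with e1 | e1
  · exact ⟨a, Subtype.ext e1, e⟩
  obtain ⟨c, hc, e2, e3⟩ := Ms.lx.sep (Q ⊓ cjs g Q) inf_le_right ⟨hs, Ms.lx.mem⟩ a ha.1
    fun h => Ms.lx.ne (e1.symm.trans (h1 _ h))
  have h2 := (ex_of_lx Ms.lx).card_cent (M := Q ⊓ cjs g Q) inf_le_right ⟨hs, Ms.lx.mem⟩
  rw [Ms.card, (M.pb_A hs hne h8).2] at h2
  have h3 : c ∈ Q ⊓ cjs g Q := by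
    rw [eq_of_le_of_card_ge (H := Q ⊓ cjs g Q)
      (K := cjs g Q ⊓ centralizer (Q ⊓ cjs g Q : Subgroup G)) (fun x hx => ⟨hx.2, fun y hy =>
        M.comm_inf hne hy.1 hy.2 hx.1 hx.2⟩) (by rw [(M.pb_A hs hne h8).2]; omega)]
    exact ⟨hc, fun y hy => (e2 y hy).symm⟩
  refine ⟨a * ⟨c, mem_centralizer_singleton_iff.2 (M.lx.cen c h3.1)⟩, Subtype.ext ?_, by
    rw [map_mul, (M.ker ⟨c, _⟩).2 h3.1, mul_one, e]⟩
  calc (a : G) * c * (a * c) = a * (c * a * c⁻¹) * (c * c) := by group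
    _ = 1 := by rw [e3, h1 c h3, mul_one, ← mul_assoc, Ms.lx.cen _ ha.1, mul_assoc, e1, Ms.lx.sq]

variable {β : G} (hβ : β ^ 7 = 1) (β1 : β ≠ 1) (hβz : β * z = z * β)
  (hβs : β * (g * z * g⁻¹) = g * z * g⁻¹ * β)
include hβ β1 hβz hβs

theorem exists_std {b : M24} (hb : orderOf b = 7) : ∃ (k : Co0) (γ : centralizer ({z} : Set G)),
    zpowers (γ : G) = zpowers β ∧ R (g * z * g⁻¹) (k⁻¹ • e8 none) ∧
      (permC b : Spor.Co1) = MulAut.conj (k : Spor.Co1) (π γ) := by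
  have : Fact (Nat.Prime 7) := ⟨by norm_num⟩
  obtain ⟨k₀, h8⟩ := M.exists_twist hs hne
  have M' := M.twist k₀
  let β' : centralizer ({z} : Set G) := ⟨β, mem_centralizer_singleton_iff.2 hβz⟩
  obtain ⟨k, e⟩ := lift' (π := (MulAut.conj (k₀ : Spor.Co1)).toMonoidHom.comp π) β'
  have hm : k ∈ monoN := M'.pb_L hne h8 ▸ mem_pb.2 ⟨_, ⟨β'.2, mem_centralizer_singleton_iff.2 hβs⟩, e⟩
  obtain ⟨k, e, hk⟩ : ∃ k : monoN, ((k : Co0) : Spor.Co1) = MulAut.conj (k₀ : Spor.Co1) (π β') ∧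
      k ^ 7 = 1 := by
    have : ((k ^ 7 : Co0) : Spor.Co1) = 1 := by
      rw [QuotientGroup.mk_pow, e, ← map_pow, show β' ^ 7 = 1 from Subtype.ext hβ, map_one]
    rcases mem_center_iff'.1 ((QuotientGroup.eq_one_iff _).1 this) with e' | e'
    · exact ⟨⟨k, hm⟩, e, Subtype.ext e'⟩
    · refine ⟨⟨negC * k, mul_mem (signG_le negC_mem_signG) hm⟩, (co1_neg k).trans e, Subtype.ext ?_⟩
      change (negC * k) ^ 7 = 1
      rw [Commute.mul_pow (negC_comm _).symm, negC_pow_odd (by decide), e', negC_sq]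
  obtain ⟨m, hm⟩ := exists_conj_permC' (by norm_num) (by decide) k hk
  haveI : Finite M24 := Nat.finite_of_card_ne_zero (by rw [H14.card_M24]; norm_num)
  obtain ⟨j, hj⟩ := exists_isConj_zpow (p := 7) (x := monoP k) (by norm_num)
    (by rw [H14.card_M24]; decide +kernel)
    (orderOf_eq_prime (by rw [← map_pow, hk, map_one]) fun e' => β1 (by
      have h1 : (k : Co0) = 1 := eq_one_of_odd (p := 7) (n := 1) (by decide) (congrArg Subtype.val hk)
        ((pow_two _).trans (signG_sq ((monoP_eq_one_iff k).1 e')))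
      exact eq_one_of_odd (by decide) hβ (M.q4 ((M'.ker β').1 (e.symm.trans (by rw [h1]; rfl)))))) hb
  obtain ⟨μ, hμ⟩ := isConj_iff.1 hj
  have h1 : (permC b : Spor.Co1) =
      MulAut.conj ((permC μ * m * k₀ : Co0) : Spor.Co1) (π (β' ^ j)) := by
    rw [← hμ, ← permHom_apply, map_mul, map_mul, map_inv, map_zpow, permHom_apply, permHom_apply, ← hm,
      conj_zpow]
    simp only [QuotientGroup.mk_mul, QuotientGroup.mk_inv, QuotientGroup.mk_zpow, e, MulAut.conj_apply,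
      conj_zpow, map_zpow]
    group
  refine ⟨_, _, eq_of_le_of_card_ge (zpowers_le.2 (zpow_mem_zpowers β j)) ?_, ?_, h1⟩
  · rw [Nat.card_zpowers, Nat.card_zpowers, orderOf_eq_prime hβ β1,
      orderOf_eq_prime (x := ((β' ^ j : centralizer _) : G))
        (pow_of_zpowers (zpow_mem_zpowers β j) hβ) fun e' => ?_]
    rw [show β' ^ j = 1 from Subtype.ext e', map_one, map_one] at h1
    have h2 := monoP_congr (k := ⟨_, permC_mem_monoN b⟩) (k' := 1) h1
    rw [monoP_permC, map_one] at h2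
    rw [h2, orderOf_one] at hb
    omega
  · obtain ⟨w, hw⟩ := (mem_monoN_iff_congr none).1 (inv_mem (mul_mem (permC_mem_monoN μ) m.2))
    rw [mul_inv_rev, mul_smul, hw]
    exact M'.add_two h8 w

theorem two7 : ∃ t ∈ Q ⊓ cjs g Q, t * β = β * t ∧ t ≠ 1 ∧ ¬ IsConj z t := by
  obtain ⟨b, hb⟩ := exists_rep24 (cl := m24_7A) (by simp [m24Cl])
  obtain ⟨k, γ, e, h8, hπ⟩ := M.exists_std hs hne hβ β1 hβz hβs (o7 hb)
  have M' := M.twist k
  obtain ⟨q, hq⟩ := M'.ex' ⟨_, vTwo_mem (isCw_bits (m := 10170384) (by decide +kernel))⟩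
  obtain ⟨a, -, h1, h2⟩ := M'.comm_elt hs hne h8
    (signC_mem_signG _ (isCw_bits (m := 442481) (by decide +kernel))) hq (by decide +kernel)
  refine ⟨_, ⟨M.mem h2, h1⟩, comm_of_zpowers (e ▸ mem_zpowers β) (M'.comm_of_fix (p := 7) (by decide)
    (pow_of_zpowers (e ▸ mem_zpowers _) hβ) hπ h2
    (fix_of_fixP' (X := 0x82082082072082082082082082081c820820) hb (by decide +kernel) ?_)),
    M'.not_conj_two hs hne h2 ?_⟩
  · funext i
    simp only [AddSubgroup.coe_add, AddSubgroup.coe_neg, Pi.add_apply, Pi.neg_apply, signC_apply]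
    revert i; decide +kernel
  · simp only [sqNorm, AddSubgroup.coe_add, AddSubgroup.coe_neg, Pi.add_apply, Pi.neg_apply,
      signC_apply]
    decide +kernel

theorem uu7 : ∃ u ∈ Q, u * u = 1 ∧ u * β = β * u ∧ u * (g * z * g⁻¹) = g * z * g⁻¹ * u ∧ u ∉ cjs g Q ∧
    ∀ q ∈ cjs g Q, q * β = β * q → q * z = z * q → u * q * u⁻¹ = q ∨ u * q * u⁻¹ = z * q := by
  obtain ⟨b, hb⟩ := exists_rep24 (cl := m24_7A) (by simp [m24Cl])
  obtain ⟨k, γ, e, h8, hπ⟩ := M.exists_std hs hne hβ β1 hβz hβs (o7 hb)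
  have M' := M.twist k
  obtain ⟨u, hu⟩ := M'.ex' He7.vO
  have u2 := (M'.sq_iff hu).2 (by decide +kernel)
  refine ⟨u, M.mem hu, u2, comm_of_zpowers (e ▸ mem_zpowers β) (M'.comm_of_fix (p := 7) (by decide)
    (pow_of_zpowers (e ▸ mem_zpowers _) hβ) hπ hu (fix_vO hb)),
    (M'.comm_iff hu h8).2 (by rw [dot_e8]; decide +kernel), fun h => ?_, fun q h1 h2 h3 => ?_⟩
  · obtain ⟨a, ha, -, h2⟩ := M'.comm_elt hs hne h8
      (signC_mem_signG _ (isCw_bits (m := 4845570) (by decide +kernel))) hu (by decide +kernel)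
    have := M'.not_conj_two hs hne h2 (by
      simp only [sqNorm, AddSubgroup.coe_add, AddSubgroup.coe_neg, Pi.add_apply, Pi.neg_apply,
        signC_apply]
      decide +kernel)
    rcases (M.cj g).lx.comm a ha u h with e' | e' <;> rw [e'] at this
    · exact this.1 (mul_inv_cancel u)
    · exact this.2 (isConj_iff.2 ⟨g, (mul_inv_cancel_right _ _).symm⟩)
  · let q' : centralizer ({z} : Set G) := ⟨q, mem_centralizer_singleton_iff.2 h3⟩
    obtain ⟨c, hc⟩ := lift' (π := (MulAut.conj (k : Spor.Co1)).toMonoidHom.comp π) q'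
    have h4 := M'.conj _ _ hc hu
    have h5 : R (q * u * q⁻¹) (k⁻¹ • He7.vO) := by
      rcases sign_vO hb ((M'.pb_A hs hne h8).1 ▸ mem_pb.2 ⟨_, mem_inf.2 ⟨h1, q'.2⟩, hc⟩)
        (comm_of_co1 (by decide) (b7 hb) (by
          rw [hc, hπ]
          exact (Commute.map (Subtype.ext (comm_of_zpowers (e ▸ mem_zpowers _) h2) : Commute q' γ)
            ((MulAut.conj (k : Spor.Co1)).toMonoidHom.comp π)).eq)) with e' | e' <;> rw [e'] at h4
      exacts [h4, neg_neg He7.vO ▸ M'.neg h4]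
    have ui := inv_eq_of_mul_eq_one_right u2
    refine (M'.uniq hu h5).imp (fun e' => ?_) fun e' => ?_
    · rw [← mul_inv_eq_iff_eq_mul.1 e', mul_inv_cancel_right]
    · calc _ = u * (q * u * q⁻¹) * q := by rw [ui]; group
        _ = _ := by rw [e', ← mul_assoc u, M.lx.cen u (M.mem hu), mul_assoc z, u2, mul_one]

end MD

end Cfsg.Agent.H15
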