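import Cfsg.Agent.H15.He7.M

/-! Groups of Monster type: the centraliser of an element of order 7 of `C(z, s)` and the Held group. -/

set_option autoImplicit false

namespace Cfsg.Agent.H15

open Subgroup H97 H14 He7

universe u

variable {G : Type u} [Group G] {z : G}

namespace MD

variable {Q : Subgroup G} {π : centralizer ({z} : Set G) →* Spor.Co1}
  {R : G → leechLattice → Prop} (M : MD z Q π R)
  [Finite G] {g : G} (hs : g * z * g⁻¹ ∈ Q) (hne : g * z * g⁻¹ ≠ z)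
include M hs hne

theorem he7 {β : G} (hβ : β ^ 7 = 1) (β1 : β ≠ 1) (hβz : β ∈ centralizer ({z} : Set G))
    (hβs : β * (g * z * g⁻¹) = g * z * g⁻¹ * β) (h8 : R (g * z * g⁻¹) (e8 none)) {b : M24}
    (hb : GE.pk b = m24_7A.X) (hπ : (permC b : Spor.Co1) = π ⟨β, hβz⟩)
    {Y : Subgroup G} (hY : ∀ y, y ∈ Y ↔ y * β = β * y) {X : Type*} [Group X] [Finite X]
    (f : Y →* X) (hf : Function.Surjective f) (hk : ∀ y, f y = 1 ↔ (y : G) ∈ zpowers β) :
    Nonempty (X ≃* Spor.He) := by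
  obtain ⟨B, hB, hL, hK, k5, hex⟩ := data7 hb
  have hp : Nat.Prime 7 := by norm_num
  have ho : Odd 7 := by decide
  have hz' := mem_centralizer_singleton_iff.1 hβz
  obtain ⟨zY, rfl⟩ : ∃ zY : Y, (zY : G) = z := ⟨⟨z, (hY z).2 hz'.symm⟩, rfl⟩
  have hfe : ∀ a c : Y, (a : G) ^ 2 ^ 2 = 1 → (c : G) ^ 2 ^ 2 = 1 → f a = f c → a = c :=
    fun a c ha hc e => by
      rw [← inv_mul_eq_one, ← map_inv, ← map_mul, hk] at e
      have h1 : (c : G) = a * (a⁻¹ * c : Y) := by simp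
      rw [h1, Commute.mul_pow (comm_of_zpowers e ((hY _).1 a.2)), ha, one_mul] at hc
      have := eq_one_of_odd ho (pow_of_zpowers e hβ) hc
      rw [this, mul_one] at h1
      exact Subtype.ext h1.symm
  have c4 : ∀ (c : G) {a : G}, a ∈ Q → (c * a * c⁻¹) ^ 2 ^ 2 = 1 := fun c a ha => by
    rw [conj_pow, M.q4 ha, mul_one, mul_inv_cancel]
  have hcj : ∀ c a a' : Y, (a : G) ∈ Q → (a' : G) ∈ Q → f c * f a * (f c)⁻¹ = f a' →
      c * a * (c : G)⁻¹ = a' := fun c a a' ha ha' e => congrArg Subtype.val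
    (hfe (c * a * c⁻¹) a' (c4 c ha) (M.q4 ha') (by rwa [map_mul, map_mul, map_inv]))
  have hcent : ∀ y, f y * f zY = f zY * f y → y * zY = zY * y := fun y e =>
    Subtype.ext (mul_inv_eq_iff_eq_mul.1 (hcj y zY zY M.lx.mem M.lx.mem (mul_inv_eq_iff_eq_mul.2 e)))
  have hrange : ∀ h : centralizer ({zY} : Set Y), ∃ k : Cen b,
      ((k : Co0) : Spor.Co1) = π (cenIncl zY h) := fun h => by
    obtain ⟨k, e⟩ := lift' (π := π) (cenIncl zY h)
    refine ⟨⟨k, mem_centralizer_singleton_iff.2 (comm_of_co1 ho (b7 hb) ?_)⟩, e⟩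
    rw [e, hπ, ← map_mul, ← map_mul]
    exact congrArg π (Subtype.ext ((hY _).1 h.1.2))
  obtain ⟨θ, hθ⟩ := exists_hom_of_range ((QuotientGroup.mk' _).comp (Cen b).subtype)
    (π.comp (cenIncl zY)) hrange B.psi fun k e => B.psi_eq_one_of_mem (mem_pmCyc.2 (by
      rw [show ((k : Co0) : Spor.Co1) = 1 from e]; exact one_mem _))
  let F : centralizer ({zY} : Set Y) →* centralizer ({f zY} : Set X) :=
    (f.comp (centralizer ({zY} : Set Y)).subtype).codRestrict _ fun h =>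
      mem_centralizer_singleton_iff.2 (by
        rw [MonoidHom.comp_apply, ← map_mul, ← map_mul]
        exact congrArg f (mem_centralizer_singleton_iff.1 h.2))
  have hF : Function.Surjective F := fun h' => by
    obtain ⟨h, e⟩ := hf h'
    exact ⟨⟨h, mem_centralizer_singleton_iff.2
      (hcent h (e ▸ mem_centralizer_singleton_iff.1 h'.2))⟩, Subtype.ext e⟩
  have hFe : ∀ a c : centralizer ({zY} : Set Y), (a.1 : G) ∈ Q → (c.1 : G) ∈ Q →
      (F a = F c ↔ (a.1 : G) = c.1) := fun a c ha hc =>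
    ⟨fun e => congrArg Subtype.val (hfe _ _ (M.q4 ha) (M.q4 hc) (congrArg Subtype.val e)),
      fun e => congrArg F (Subtype.ext (Subtype.ext e))⟩
  obtain ⟨ψ, hψ⟩ := exists_lift F hF θ fun h e => by
    obtain ⟨k, e'⟩ := hrange h
    obtain ⟨i, hi⟩ := (hk h).1 (congrArg Subtype.val e)
    rw [hθ h k e']
    refine B.psi_eq_one_of_mem (mem_pmCyc.2 ⟨i, ?_⟩)
    rw [e', show cenIncl zY h = ⟨β, hβz⟩ ^ i from Subtype.ext hi.symm, map_zpow, hπ]
  obtain ⟨κ, hκ⟩ : ∃ κ : centralizer ({f zY} : Set X) → W 6,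
      ∀ (h : centralizer ({zY} : Set Y)) v, R h.1 v → κ (F h) = B.kap v := by
    classical
    refine ⟨fun x => if h : ∃ p : centralizer ({zY} : Set Y) × leechLattice, F p.1 = x ∧ R p.1.1 p.2
      then B.kap h.choose.2 else 0, fun h v hv => ?_⟩
    have h1 : ∃ p : centralizer ({zY} : Set Y) × leechLattice, F p.1 = F h ∧ R p.1.1 p.2 :=
      ⟨(h, v), rfl, hv⟩
    refine (dif_pos h1).trans ?_
    have h2 := h1.choose_spec
    exact B.kap_eq_of_mk (H15.mk_eq_iff'.2 (M.congr hv ((hFe _ _ (M.mem h2.2) (M.mem hv)).1 h2.1 ▸ h2.2)))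
  have el : ∀ {q}, q ∈ Q → q * β = β * q → ∃ h : centralizer ({zY} : Set Y), (h.1 : G) = q :=
    fun {q} h e => ⟨⟨⟨q, (hY q).2 e⟩, mem_centralizer_singleton_iff.2 (Subtype.ext (M.lx.cen q h))⟩, rfl⟩
  have el' : ∀ v, permC b • v = v → ∃ h : centralizer ({zY} : Set Y), R h.1 v := fun v hv => by
    obtain ⟨q, hq⟩ := M.ex' v
    obtain ⟨h, rfl⟩ := el (M.mem hq) (M.comm_of_fix (β := ⟨β, hβz⟩) ho hβ hπ hq hv)
    exact ⟨h, hq⟩
  have hS' : ∀ h : centralizer ({zY} : Set Y), (h.1 : G) ∈ Q → ψ (F h) = 1 := fun h e => by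
    rw [hψ, hθ h 1 ((M.ker (cenIncl zY h)).2 e).symm, map_one]
  have hS : ∀ x, ψ x = 1 → ∃ (h : centralizer ({zY} : Set Y)) (v : leechLattice),
      F h = x ∧ R h.1 v ∧ permC b • v = v := fun x hx => by
    obtain ⟨h, rfl⟩ := hF x
    obtain ⟨k, e⟩ := hrange h
    obtain ⟨i, hi⟩ := mem_pmCyc.1 (hK k (by rw [← hθ h k e, ← hψ, hx]))
    let β' : centralizer ({zY} : Set Y) :=
      ⟨⟨β, (hY β).2 rfl⟩, mem_centralizer_singleton_iff.2 (Subtype.ext hz')⟩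
    obtain ⟨v, hv⟩ := M.ex _ ((M.ker (cenIncl zY (h * (β' ^ i)⁻¹))).1 (by
      rw [map_mul, map_inv, map_zpow, map_mul, map_inv, map_zpow, ← e, ← hi, mul_inv_eq_one]
      exact congrArg (· ^ i) hπ))
    replace hv : R (h * (β' ^ i)⁻¹).1 v := hv
    have h1 := M.conj _ _ hπ hv
    rw [show ((⟨β, hβz⟩ : centralizer _) : G) = β from rfl, ← (hY _).1 (h * (β' ^ i)⁻¹).1.2,
      mul_inv_cancel_right] at h1
    obtain ⟨v', e1, e2⟩ := exists_fixed_rep ho (b7 hb) (H15.mk_eq_iff'.2 (M.congr hv h1))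
    refine ⟨_, v', ?_, M.of_mk_eq hv e2, e1⟩
    rw [map_mul, map_inv, show F (β' ^ i) = 1 from Subtype.ext ((hk _).2 (zpow_mem_zpowers β i)),
      inv_one, mul_one]
  let z' : centralizer ({zY} : Set Y) := ⟨zY, mem_centralizer_singleton_iff.2 rfl⟩
  have hv4 : ∀ (h : centralizer ({zY} : Set Y)) v, R h.1 v → permC b • v = v →
      B.kap v ∈ Ub ∨ B.kap v ∈ Kb → (h.1 : G) ≠ 1 → IsConj (zY : G) h.1 := fun h v hv e h1 h2 => by
    by_cases h0 : B.kap v = 0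
    · rw [((M.one_iff hv).2 ?_).resolve_left h2]
      simpa using H15.mk_eq_iff'.1 (B.mk_eq_of_kap e (co0_smul_zero _) (h0.trans (map_zero _).symm))
    · obtain ⟨w, hw, e'⟩ := hex _ h1 h0
      exact M.isConj_of_four hs hne (M.of_mk_eq hv (B.mk_eq_of_kap hw.2 e e')) hw.1
  refine he_of (y := f zY) (κ := κ) (ψ := ψ) ⟨fun e => M.lx.ne ((hFe z' 1 M.lx.mem Q.one_mem).1
      (e.trans (map_one F).symm)), Subtype.ext ?_, fun h => Subtype.ext (mem_centralizer_singleton_iff.1 h.2),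
    hL ▸ le_antisymm ?_ ?_, hS' z' M.lx.mem, fun {a c} ha hc => ?_, fun v => ?_, fun {a} ha => ?_,
    fun {a c} ha hc => ?_, fun h a ha => ?_, fun {a} ha h => ?_, ?_⟩ (fun a ha h1 h2 => ?_)
    fun x s h1 h2 h3 => ?_
  · exact (map_mul f _ _).symm.trans ((congrArg f (Subtype.ext M.lx.sq)).trans (map_one f))
  · rintro _ ⟨x, rfl⟩
    obtain ⟨h, rfl⟩ := hF x
    obtain ⟨k, e⟩ := hrange h
    exact ⟨k, by rw [hψ, hθ h k e]⟩
  · rintro _ ⟨k, rfl⟩
    obtain ⟨h, e1, e2⟩ := exists_comm_lift π M.surj hp (M.card_ker ▸ not_dvd_two_pow hp ho _)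
      (β := ⟨β, hβz⟩) (Subtype.ext hβ) (k := ((k : Co0) : Spor.Co1)) (by
        rw [← hπ, ← QuotientGroup.mk_mul, ← QuotientGroup.mk_mul, mem_centralizer_singleton_iff.1 k.2])
    exact ⟨F ⟨⟨h, (hY h).2 (congrArg Subtype.val e2)⟩,
      mem_centralizer_singleton_iff.2 (Subtype.ext (mem_centralizer_singleton_iff.1 h.2))⟩,
      (hψ _).trans (hθ _ k e1.symm)⟩
  · obtain ⟨a, v, rfl, hv, -⟩ := hS a ha
    obtain ⟨c, w, rfl, hw, -⟩ := hS c hc
    rw [← map_mul, hκ _ _ (M.mul hv hw), hκ a v hv, hκ c w hw, map_add]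
  · obtain ⟨v, hv, rfl⟩ := B.exists_kap v
    obtain ⟨h, e⟩ := el' v hv
    exact ⟨F h, hS' h (M.mem e), hκ h v e⟩
  · obtain ⟨a, v, rfl, hv, e⟩ := hS a ha
    rw [hκ a v hv, ← map_one F, hFe a 1 (M.mem hv) Q.one_mem]
    refine Iff.trans ?_ ((M.one_iff hv).symm.trans (or_congr_right (hFe a z' (M.mem hv) M.lx.mem).symm))
    rw [← map_zero B.kap]
    exact ⟨fun h => by simpa using H15.mk_eq_iff'.1 (B.mk_eq_of_kap e (co0_smul_zero _) h),
      fun h => B.kap_eq_of_mk (H15.mk_eq_iff'.2 (by simpa using h))⟩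
  · obtain ⟨a, v, rfl, hv, e⟩ := hS a ha
    obtain ⟨c, w, rfl, hw, e'⟩ := hS c hc
    rw [hκ a v hv, hκ c w hw, ← dvd_iff_Bf hB e e', ← M.comm_iff hv hw, ← map_mul, ← map_mul]
    exact hFe _ _ (Q.mul_mem (M.mem hv) (M.mem hw)) (Q.mul_mem (M.mem hw) (M.mem hv))
  · obtain ⟨a, v, rfl, hv, e⟩ := hS a ha
    obtain ⟨h, rfl⟩ := hF h
    obtain ⟨k, e'⟩ := hrange h
    rw [← map_inv, ← map_mul, ← map_mul, hκ _ _ (M.conj _ _ e' hv), hκ a v hv, hψ, hθ h k e', B.psi_kap k e]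
  · obtain ⟨a, v, rfl, hv, e⟩ := hS a ha
    rw [← map_mul, ← map_one F, hFe _ 1 (Q.mul_mem (M.mem hv) (M.mem hv)) Q.one_mem]
    change (a.1 : G) * a.1 = 1
    by_cases h1 : (a.1 : G) = 1
    · rw [h1, one_mul]
    · exact H24.sq_of_isConj M.lx.sq (hv4 a v hv e (hκ a v hv ▸ h) h1)
  · have e1 : g⁻¹ * (g * zY * g⁻¹) * g⁻¹⁻¹ = zY := by group
    have e2 : cjs g⁻¹ (cjs g Q) = Q := Subgroup.ext fun a => by rw [mem_cjs, inv_inv, conj_mem_cjs]
    obtain ⟨u, -, u1, u2, u3, u4, u5⟩ := (M.cj g).uu7 (g := g⁻¹) (e1.symm ▸ M.mem_cjs_of_mem hs hne)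
      (e1.symm ▸ hne.symm) hβ β1 hβs (e1.symm ▸ hz')
    rw [e1] at u3
    rw [e2] at u4 u5
    obtain ⟨s, hs'⟩ := el hs hβs.symm
    rw [← hs'] at h8 u5
    let u' : centralizer ({zY} : Set Y) :=
      ⟨⟨u, (hY u).2 u2⟩, mem_centralizer_singleton_iff.2 (Subtype.ext u3)⟩
    have u6 : u' * u' = 1 := Subtype.ext (Subtype.ext u1)
    refine ⟨F s, F u', hS' s (M.mem h8), by rw [hκ s _ h8, k5]; decide +kernel,
      by rw [hκ s _ h8, k5]; decide +kernel, by rw [← map_mul, u6, map_one], fun h => ?_, fun q h1 h2 => ?_⟩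
    · obtain ⟨a, v, e, hv, -⟩ := hS _ h
      refine u4 (show (u'.1 : G) ∈ Q from hfe a u' (M.q4 (M.mem hv)) ?_ (congrArg Subtype.val e) ▸ M.mem hv)
      rw [show 2 ^ 2 = 2 * 2 from rfl, pow_mul, pow_two (u'.1 : G), show (u'.1 : G) * u'.1 = 1 from u1, one_pow]
    · obtain ⟨q, v, rfl, hv, -⟩ := hS q h1
      rw [← map_mul, ← map_mul, hFe _ _ (Q.mul_mem (M.mem hv) (M.mem h8))
        (Q.mul_mem (M.mem h8) (M.mem hv))] at h2
      rw [← map_inv, ← map_mul, ← map_mul, ← map_mul]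
      exact (u5 q.1 (M.mem hv) ((hY _).1 q.1.2) h2).imp (fun e => congrArg F (Subtype.ext (Subtype.ext e)))
        fun e => congrArg F (Subtype.ext (Subtype.ext e))
  · obtain ⟨a, v, rfl, hv, e⟩ := hS a ha
    have ha1 : (a.1 : G) ≠ 1 := fun e => h2 (by rw [show a = 1 from Subtype.ext (Subtype.ext e), map_one])
    by_cases haz : (a.1 : G) = zY
    · rw [show a = z' from Subtype.ext (Subtype.ext haz)]; exact IsConj.refl _
    obtain ⟨g', hg'⟩ := isConj_iff.1 (hv4 a v hv e (hκ a v hv ▸ h1) ha1)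
    obtain ⟨d, -, hd⟩ := M.lx.exists_conj (M.mem hv) ha1 haz
    have e1 : d * g' * zY * (d * g')⁻¹ = zY * a.1 := by rw [← hd, ← hg']; group
    have e2 : d * g' * zY * (d * g')⁻¹ ≠ zY := by rw [e1, Ne, mul_eq_left]; exact ha1
    obtain ⟨c, -, e3, e4⟩ := lx_exists_fixed (M.cj (d * g')).lx (M.cj _).card hp ho hβ
      (e1 ▸ ((hY _).1 (zY * a.1).2).symm)
      (M.mem_cjs_of_mem (e1 ▸ Q.mul_mem M.lx.mem (M.mem hv)) e2) M.lx.ne e2.symm hz'
    rw [e1, mul_assoc _ (a.1 : G), M.lx.cen _ (M.mem hv), M.zz] at e4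
    exact isConj_iff.2 ⟨f ⟨c, (hY c).2 e3⟩, by
      rw [← map_inv, ← map_mul, ← map_mul]; exact congrArg f (Subtype.ext e4)⟩
  · obtain ⟨s, v, rfl, hv, -⟩ := hS s h1
    obtain ⟨c, rfl⟩ := hf x
    have e := hcj c zY s M.lx.mem (M.mem hv) h2
    have e1 : c * zY * (c : G)⁻¹ ≠ zY := fun e' => h3 (congrArg f (Subtype.ext (e.symm.trans e')))
    obtain ⟨t, ⟨t1, t2⟩, t3, t4, t5⟩ := M.two7 (e ▸ M.mem hv) e1 hβ β1 hz' (e ▸ ((hY _).1 s.1.2).symm)
    refine ⟨f ⟨t, (hY t).2 t3⟩, fun h => t4 (eq_one_of_odd ho (pow_of_zpowers ((hk _).1 h) hβ) (M.q4 t1)),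
      fun h => t5 ?_, fun a a' ha ha' e => ?_⟩
    · obtain ⟨d, hd⟩ := isConj_iff.1 h
      obtain ⟨d, rfl⟩ := hf d
      exact isConj_iff.2 ⟨d, hcj d zY _ M.lx.mem t1 hd⟩
    · obtain ⟨a, w, rfl, hw, -⟩ := hS a ha
      obtain ⟨a', w', rfl, hw', -⟩ := hS a' ha'
      exact (map_mul f _ _).symm.trans ((congrArg f (Subtype.ext (M.comm_inf e1 t1 t2 (M.mem hw)
        (hcj c a' a (M.mem hw') (M.mem hw) e.symm ▸ conj_mem_cjs.2 (M.mem hw'))))).trans (map_mul f _ _))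

theorem exists_gen7 {B : Subgroup G} (hB : B ≤ centralizer ({z, g * z * g⁻¹} : Set G))
    (hBp : Nat.card B = 7 ^ (Nat.card (centralizer ({z, g * z * g⁻¹} : Set G))).factorization 7)
    {b : M24} (hb : GE.pk b = m24_7A.X) : ∃ (k : Co0) (γ : centralizer ({z} : Set G)),
      B = zpowers (γ : G) ∧ (γ : G) ^ 7 = 1 ∧ (γ : G) ≠ 1 ∧ γ * (g * z * g⁻¹) = g * z * g⁻¹ * γ ∧
      R (g * z * g⁻¹) (k⁻¹ • e8 none) ∧ (permC b : Spor.Co1) = MulAut.conj (k : Spor.Co1) (π γ) := by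
  obtain ⟨χ, c1, c2, -⟩ := M.exists_chi hs hne
  have h0 : (2 ^ 35 * 244823040 : ℕ).factorization 7 = 1 := by decide +kernel
  rw [card_of_chi χ c1 c2, h0, pow_one] at hBp
  obtain ⟨β, o, rfl⟩ := exists_gen hB (by norm_num) hBp
  have h7 : (β : G) ^ 7 = 1 := congrArg Subtype.val (show β ^ 7 = 1 from o ▸ pow_orderOf_eq_one β)
  have h1 : (β : G) ≠ 1 := fun e => by
    rw [show β = 1 from Subtype.ext e, orderOf_one] at o
    omega
  obtain ⟨k, γ, e, h⟩ := M.exists_std hs hne h7 h1 (β.2 _ (by simp)).symm (β.2 _ (by simp)).symm (o7 hb)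
  exact ⟨k, γ, e.symm, pow_of_zpowers (e ▸ mem_zpowers _) h7,
    fun e' => h1 (by simpa [e'] using e.ge (mem_zpowers (β : G))),
    (comm_of_zpowers (e ▸ mem_zpowers _) (β.2 _ (by simp))).symm, h⟩

theorem isoHe {B : Subgroup G} (hB : B ≤ centralizer ({z, g * z * g⁻¹} : Set G))
    (hBp : Nat.card B = 7 ^ (Nat.card (centralizer ({z, g * z * g⁻¹} : Set G))).factorization 7)
    [(B.subgroupOf (centralizer (B : Set G))).Normal] :
    Spor.IsoHe (centralizer (B : Set G) ⧸ B.subgroupOf (centralizer (B : Set G))) := by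
  obtain ⟨b, hb⟩ := exists_rep24 (cl := m24_7A) (by simp [m24Cl])
  obtain ⟨k, γ, e, h1, h2, h3, h4, h5⟩ := M.exists_gen7 hs hne hB hBp hb
  exact (M.twist k).he7 hs hne h1 h2 γ.2 h3 h4 hb h5
    (fun y => by rw [e, zpowers_eq_closure, centralizer_closure, mem_centralizer_singleton_iff])
    (QuotientGroup.mk' _) (QuotientGroup.mk'_surjective _) fun y => by
      rw [QuotientGroup.mk'_apply, QuotientGroup.eq_one_iff, mem_subgroupOf, ← e]

end MD

end Cfsg.Agent.H15
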